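import Mathlib.Algebra.Homology.DerivedCategory.ExactFunctor
import Mathlib.Algebra.Homology.Additive

/-!
# An exact functor with an exact retraction and a connecting functor is fully faithful on derived categories
-/

set_option autoImplicit false

universe w₁ w₂ w₃ v₁ v₂ v₃ u₁ u₂ u₃

open CategoryTheory CategoryTheory.Limits

namespace Groth.Agent.FibSiteLib.DerivedRetract

section NatTrans

variable {A : Type u₁} [Category.{v₁} A] [Abelian A] {B : Type u₂} [Category.{v₂} B] [Abelian B]
  [HasDerivedCategory.{w₁} A] [HasDerivedCategory.{w₂} B]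
  (F G : A ⥤ B) [F.Additive] [PreservesFiniteLimits F] [PreservesFiniteColimits F]
  [G.Additive] [PreservesFiniteLimits G] [PreservesFiniteColimits G]

variable {F G} in
/-- A natural transformation of exact functors on derived categories. -/
noncomputable def mapD (α : F ⟶ G) : F.mapDerivedCategory ⟶ G.mapDerivedCategory :=
  Localization.liftNatTrans DerivedCategory.Q (HomologicalComplex.quasiIso A (ComplexShape.up ℤ))
    (F.mapHomologicalComplex (ComplexShape.up ℤ) ⋙ DerivedCategory.Q)
    (G.mapHomologicalComplex (ComplexShape.up ℤ) ⋙ DerivedCategory.Q) _ _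
    (Functor.whiskerRight (NatTrans.mapHomologicalComplex α _) DerivedCategory.Q)

lemma isIso_mapD_app {α : F ⟶ G} {K : CochainComplex A ℤ} (h : ∀ n, IsIso (α.app (K.X n))) :
    IsIso ((mapD α).app (DerivedCategory.Q.obj K)) := by
  have : IsIso ((NatTrans.mapHomologicalComplex α (ComplexShape.up ℤ)).app K) := by
    haveI : ∀ n, IsIso (((NatTrans.mapHomologicalComplex α (ComplexShape.up ℤ)).app K).f n) := h
    exact HomologicalComplex.Hom.isIso_of_components _
  dsimp only [mapD]
  rw [Localization.liftNatTrans_app]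
  dsimp only [Functor.whiskerRight_app]
  infer_instance

end NatTrans

variable {A : Type u₁} [Category.{v₁} A] [Abelian A] {B : Type u₂} [Category.{v₂} B] [Abelian B]
  [HasDerivedCategory.{w₁} A] [HasDerivedCategory.{w₂} B]

/-- Composites commute with passage to derived categories. -/
noncomputable def compIso {C : Type u₃} [Category.{v₃} C] [Abelian C] [HasDerivedCategory.{w₃} C]
    (F : A ⥤ B) (G : B ⥤ C) [F.Additive] [PreservesFiniteLimits F] [PreservesFiniteColimits F]
    [G.Additive] [PreservesFiniteLimits G] [PreservesFiniteColimits G]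
    [(F ⋙ G).Additive] [PreservesFiniteLimits (F ⋙ G)] [PreservesFiniteColimits (F ⋙ G)] :
    F.mapDerivedCategory ⋙ G.mapDerivedCategory ≅ (F ⋙ G).mapDerivedCategory :=
  letI : Localization.Lifting DerivedCategory.Q (HomologicalComplex.quasiIso A (ComplexShape.up ℤ))
      (F.mapHomologicalComplex (ComplexShape.up ℤ) ⋙ G.mapHomologicalComplex (ComplexShape.up ℤ) ⋙ DerivedCategory.Q)
      (F.mapDerivedCategory ⋙ G.mapDerivedCategory) :=
    ⟨(Functor.associator _ _ _).symm ≪≫ Functor.isoWhiskerRight F.mapDerivedCategoryFactors _ ≪≫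
      Functor.associator _ _ _ ≪≫ Functor.isoWhiskerLeft _ G.mapDerivedCategoryFactors⟩
  Localization.liftNatIso DerivedCategory.Q (HomologicalComplex.quasiIso A (ComplexShape.up ℤ))
    (F.mapHomologicalComplex (ComplexShape.up ℤ) ⋙ G.mapHomologicalComplex (ComplexShape.up ℤ) ⋙ DerivedCategory.Q)
    ((F ⋙ G).mapHomologicalComplex (ComplexShape.up ℤ) ⋙ DerivedCategory.Q) _ _
    ((Functor.associator _ _ _).symm ≪≫ Functor.isoWhiskerRight
      (NatIso.ofComponents (fun K => HomologicalComplex.Hom.isoOfComponents (fun n => Iso.refl _) (by simp))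
        (fun f => by ext; simp)) _)

variable (B) in
/-- The identity functor on derived categories. -/
noncomputable def idIso : (𝟭 B).mapDerivedCategory ≅ 𝟭 (DerivedCategory B) :=
  letI : Localization.Lifting DerivedCategory.Q (HomologicalComplex.quasiIso B (ComplexShape.up ℤ))
      DerivedCategory.Q (𝟭 (DerivedCategory B)) := ⟨Functor.rightUnitor _⟩
  Localization.liftNatIso DerivedCategory.Q (HomologicalComplex.quasiIso B (ComplexShape.up ℤ))
    ((𝟭 B).mapHomologicalComplex (ComplexShape.up ℤ) ⋙ DerivedCategory.Q) DerivedCategory.Q _ _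
    (Functor.isoWhiskerRight (Functor.mapHomologicalComplexIdIso B _) _ ≪≫ Functor.leftUnitor _)

variable (θ : A ⥤ B) [θ.Additive] [PreservesFiniteLimits θ] [PreservesFiniteColimits θ]
  (ρ : B ⥤ A) [ρ.Additive] [PreservesFiniteLimits ρ] [PreservesFiniteColimits ρ]

/-- If `θ ⋙ ρ ≅ 𝟭` and `𝟭` is connected to `ρ ⋙ θ` through natural transformations which are invertible on
the image of `θ`, then `θ` is fully faithful on derived categories. -/
theorem bijective_mapDerivedCategory (e : θ ⋙ ρ ≅ 𝟭 A) (Dc : B ⥤ B) [Dc.Additive] [PreservesFiniteLimits Dc]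
    [PreservesFiniteColimits Dc] (a : 𝟭 B ⟶ Dc) (b : ρ ⋙ θ ⟶ Dc)
    (ha : ∀ X, IsIso (a.app (θ.obj X))) (hb : ∀ X, IsIso (b.app (θ.obj X))) (K L : DerivedCategory A) :
    Function.Bijective (θ.mapDerivedCategory.map : (K ⟶ L) → _) := by
  let T := θ.mapDerivedCategory
  let R := ρ.mapDerivedCategory
  haveI := comp_preservesFiniteLimits θ ρ
  haveI := comp_preservesFiniteColimits θ ρ
  haveI := comp_preservesFiniteLimits ρ θ
  haveI := comp_preservesFiniteColimits ρ θ
  haveI : ∀ K : DerivedCategory A, IsIso ((mapD e.hom).app K) := fun K => by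
    refine (NatTrans.isIso_app_iff_of_iso (mapD e.hom) (DerivedCategory.Q.objObjPreimageIso K).symm).2 ?_
    exact isIso_mapD_app _ _ fun n => inferInstance
  haveI : IsIso (mapD e.hom) := NatIso.isIso_of_isIso_app _
  let e' : T ⋙ R ≅ 𝟭 _ := compIso θ ρ ≪≫ asIso (mapD e.hom) ≪≫ idIso A
  let a' : 𝟭 (DerivedCategory B) ⟶ Dc.mapDerivedCategory := (idIso B).inv ≫ mapD a
  let b' : R ⋙ T ⟶ Dc.mapDerivedCategory := (compIso ρ θ).hom ≫ mapD b
  have key : ∀ M : DerivedCategory A, IsIso (a'.app (T.obj M)) ∧ IsIso (b'.app (T.obj M)) := by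
    intro M
    let C := DerivedCategory.Q.objPreimage M
    let i : DerivedCategory.Q.obj ((θ.mapHomologicalComplex (ComplexShape.up ℤ)).obj C) ≅ T.obj M :=
      (θ.mapDerivedCategoryFactors.app C).symm ≪≫ T.mapIso (DerivedCategory.Q.objObjPreimageIso M)
    constructor
    · haveI : IsIso ((mapD a).app (T.obj M)) := (NatTrans.isIso_app_iff_of_iso (mapD a) i.symm).2
        (isIso_mapD_app _ _ fun n => ha (C.X n))
      exact inferInstanceAs (IsIso ((idIso B).inv.app _ ≫ (mapD a).app _))
    · haveI : IsIso ((mapD b).app (T.obj M)) := (NatTrans.isIso_app_iff_of_iso (mapD b) i.symm).2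
        (isIso_mapD_app _ _ fun n => hb (C.X n))
      exact inferInstanceAs (IsIso ((compIso ρ θ).hom.app _ ≫ (mapD b).app _))
  have hinj : Function.Injective (R.map : (T.obj K ⟶ T.obj L) → _) := by
    intro g g' h
    haveI := (key L).1
    rw [← cancel_mono (a'.app (T.obj L))]
    haveI := (key K).2
    refine (a'.naturality g).trans (Eq.trans ?_ (a'.naturality g').symm)
    refine congrArg (a'.app (T.obj K) ≫ ·) ((cancel_epi (b'.app (T.obj K))).1 ?_)
    exact (b'.naturality g).symm.trans ((congrArg (fun z => T.map z ≫ b'.app (T.obj L)) h).trans (b'.naturality g'))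
  have hRT : Function.Bijective fun h : K ⟶ L => R.map (T.map h) := by
    have heq : (fun h : K ⟶ L => R.map (T.map h)) = fun h => e'.hom.app K ≫ h ≫ e'.inv.app L := by
      funext h
      exact (e'.hom.naturality_assoc h (e'.inv.app L)).symm.trans
        ((congrArg ((T ⋙ R).map h ≫ ·) (e'.hom_inv_id_app L)).trans (Category.comp_id _)) |>.symm
    rw [heq]
    exact (e'.app K).homCongr (e'.app L) |>.symm.bijective
  refine ⟨fun h h' hh => hRT.1 (congrArg R.map hh), fun g => ?_⟩
  obtain ⟨h, hh⟩ := hRT.2 (R.map g)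
  exact ⟨h, hinj hh⟩

end Groth.Agent.FibSiteLib.DerivedRetract
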