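import Groth.Agent.FibSiteLib.DerivedRetract

/-!
# Full faithfulness on derived categories from a piece
-/

set_option autoImplicit false
set_option linter.style.haveILetI false

universe w₁ w₂ w₃ w₄ v₁ v₂ v₃ v₄ u₁ u₂ u₃ u₄

open CategoryTheory CategoryTheory.Limits

namespace Groth.Agent.FibSiteLib.DerivedLocal

open DerivedRetract

variable {A : Type u₁} [Category.{v₁} A] [Abelian A] {A' : Type u₂} [Category.{v₂} A'] [Abelian A']
  {B : Type u₃} [Category.{v₃} B] [Abelian B] {B' : Type u₄} [Category.{v₄} B'] [Abelian B']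
  [HasDerivedCategory.{w₁} A] [HasDerivedCategory.{w₂} A'] [HasDerivedCategory.{w₃} B] [HasDerivedCategory.{w₄} B']

section Counit

variable {r : A ⥤ A'} [r.Additive] [PreservesFiniteLimits r] [PreservesFiniteColimits r]
  {e : A' ⥤ A} [e.Additive] [PreservesFiniteLimits e] [PreservesFiniteColimits e] (ε : r ⋙ e ⟶ 𝟭 A)

/-- A transformation to the identity on derived categories. -/
noncomputable def counitD : r.mapDerivedCategory ⋙ e.mapDerivedCategory ⟶ 𝟭 (DerivedCategory A) :=
  haveI := comp_preservesFiniteLimits r e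
  haveI := comp_preservesFiniteColimits r e
  (compIso r e).hom ≫ mapD ε ≫ (idIso A).hom

lemma isIso_map_counitD {C : Type u₂} [Category.{v₂} C] [Abelian C] [HasDerivedCategory.{w₂} C]
    (G : A ⥤ C) [G.Additive] [PreservesFiniteLimits G] [PreservesFiniteColimits G]
    (h : ∀ X, IsIso (G.map (ε.app X))) (K : DerivedCategory A) :
    IsIso (G.mapDerivedCategory.map ((counitD ε).app K)) := by
  haveI := comp_preservesFiniteLimits r e
  haveI := comp_preservesFiniteColimits r e
  have key : ∀ L : CochainComplex A ℤ, IsIso (G.mapDerivedCategory.map ((mapD ε).app (DerivedCategory.Q.obj L))) := by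
    intro L
    haveI : IsIso ((G.mapHomologicalComplex (ComplexShape.up ℤ)).map
        ((NatTrans.mapHomologicalComplex ε (ComplexShape.up ℤ)).app L)) :=
      haveI : ∀ n, IsIso (((G.mapHomologicalComplex (ComplexShape.up ℤ)).map
        ((NatTrans.mapHomologicalComplex ε (ComplexShape.up ℤ)).app L)).f n) := fun n => h (L.X n)
      HomologicalComplex.Hom.isIso_of_components _
    haveI : IsIso (G.mapDerivedCategory.map (DerivedCategory.Q.map
        ((NatTrans.mapHomologicalComplex ε (ComplexShape.up ℤ)).app L))) :=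
      (NatIso.isIso_map_iff G.mapDerivedCategoryFactors _).2
        (DerivedCategory.Q.map_isIso ((G.mapHomologicalComplex (ComplexShape.up ℤ)).map _))
    dsimp only [mapD]
    rw [Localization.liftNatTrans_app]
    dsimp only [Functor.whiskerRight_app]
    simp only [Functor.map_comp]
    infer_instance
  haveI hK : IsIso (G.mapDerivedCategory.map ((mapD ε).app K)) := by
    let i := DerivedCategory.Q.objObjPreimageIso K
    haveI := key (DerivedCategory.Q.objPreimage K)
    have hn := congrArg G.mapDerivedCategory.map ((mapD ε).naturality i.hom)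
    rw [Functor.map_comp, Functor.map_comp] at hn
    haveI : IsIso (G.mapDerivedCategory.map (((r ⋙ e).mapDerivedCategory).map i.hom) ≫
        G.mapDerivedCategory.map ((mapD ε).app K)) := hn ▸ IsIso.comp_isIso
    exact IsIso.of_isIso_comp_left (G.mapDerivedCategory.map (((r ⋙ e).mapDerivedCategory).map i.hom)) _
  simp only [counitD, NatTrans.comp_app, Functor.map_comp]
  infer_instance

lemma isIso_counitD_app {L : CochainComplex A ℤ} {K : DerivedCategory A} (i : DerivedCategory.Q.obj L ≅ K)
    (h : ∀ n, IsIso (ε.app (L.X n))) : IsIso ((counitD ε).app K) := by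
  haveI := comp_preservesFiniteLimits r e
  haveI := comp_preservesFiniteColimits r e
  haveI : IsIso ((mapD ε).app K) := (NatTrans.isIso_app_iff_of_iso (mapD ε) i.symm).2 (isIso_mapD_app _ _ h)
  simp only [counitD, NatTrans.comp_app]
  infer_instance

lemma isIso_counitD_app_map {C : Type u₂} [Category.{v₂} C] [Abelian C] [HasDerivedCategory.{w₂} C]
    {E : C ⥤ A} [E.Additive] [PreservesFiniteLimits E] [PreservesFiniteColimits E]
    (h : ∀ M, IsIso (ε.app (E.obj M))) (M : DerivedCategory C) :
    IsIso ((counitD ε).app (E.mapDerivedCategory.obj M)) :=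
  isIso_counitD_app ε (L := (E.mapHomologicalComplex (ComplexShape.up ℤ)).obj (DerivedCategory.Q.objPreimage M))
    ((E.mapDerivedCategoryFactors.app _).symm ≪≫ E.mapDerivedCategory.mapIso (DerivedCategory.Q.objObjPreimageIso M))
    fun n => h _

end Counit

variable (θ : A ⥤ B) [θ.Additive] [PreservesFiniteLimits θ] [PreservesFiniteColimits θ]
  (θ' : A' ⥤ B') [θ'.Additive] [PreservesFiniteLimits θ'] [PreservesFiniteColimits θ']
  (r : A ⥤ A') [r.Additive] [PreservesFiniteLimits r] [PreservesFiniteColimits r]
  (e : A' ⥤ A) [e.Additive] [PreservesFiniteLimits e] [PreservesFiniteColimits e]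
  (r' : B ⥤ B') [r'.Additive] [PreservesFiniteLimits r'] [PreservesFiniteColimits r']
  (e' : B' ⥤ B) [e'.Additive] [PreservesFiniteLimits e'] [PreservesFiniteColimits e']
  (μ : e ⋙ r ≅ 𝟭 A') (ε : r ⋙ e ⟶ 𝟭 A) (hrε : ∀ X, IsIso (r.map (ε.app X))) (hεe : ∀ M, IsIso (ε.app (e.obj M)))

include μ hrε hεe in
/-- Restriction is bijective on morphisms out of extensions. -/
theorem bijective_restrict (M : DerivedCategory A') (K : DerivedCategory A) :
    Function.Bijective (r.mapDerivedCategory.map : (e.mapDerivedCategory.obj M ⟶ K) → _) := by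
  let R := r.mapDerivedCategory
  let E := e.mapDerivedCategory
  let eD := counitD ε
  haveI : IsIso (eD.app (E.obj M)) := isIso_counitD_app_map ε hεe M
  haveI : ∀ X, IsIso (R.map (eD.app X)) := isIso_map_counitD ε r hrε
  haveI := comp_preservesFiniteLimits e r
  haveI := comp_preservesFiniteColimits e r
  haveI : ∀ X : DerivedCategory A', IsIso ((mapD μ.hom).app X) := fun X => by
    refine (NatTrans.isIso_app_iff_of_iso (mapD μ.hom) (DerivedCategory.Q.objObjPreimageIso X).symm).2 ?_
    exact isIso_mapD_app _ _ fun n => inferInstance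
  haveI : IsIso (mapD μ.hom) := NatIso.isIso_of_isIso_app _
  let m : E ⋙ R ≅ 𝟭 _ := compIso e r ≪≫ asIso (mapD μ.hom) ≪≫ idIso A'
  refine ⟨fun g g' h => ?_, fun y => ?_⟩
  · rw [← cancel_epi (eD.app (E.obj M))]
    exact (eD.naturality g).symm.trans ((congrArg (fun z => E.map z ≫ eD.app K) h).trans (eD.naturality g'))
  · let h : ((R.obj (E.obj M)) ⟶ R.obj K) → (E.obj M ⟶ K) := fun x => inv (eD.app (E.obj M)) ≫ E.map x ≫ eD.app K
    have hb : Function.Bijective fun x => R.map (h x) := by
      have : (fun x => R.map (h x)) = fun x : R.obj (E.obj M) ⟶ R.obj K =>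
          ((R.map (inv (eD.app (E.obj M))) ≫ m.hom.app _) ≫ x ≫ (m.inv.app _ ≫ R.map (eD.app K))) := by
        funext x
        simp only [h, Functor.map_comp, Category.assoc]
        refine congrArg (_ ≫ ·) ?_
        exact ((m.hom.naturality_assoc x (m.inv.app _ ≫ R.map (eD.app K))).symm.trans
          (congrArg ((E ⋙ R).map x ≫ ·) (m.hom_inv_id_app_assoc _ _))).symm
      rw [this]
      exact ((asIso (R.map (inv (eD.app (E.obj M))) ≫ m.hom.app _)).symm.homCongr
        (asIso (m.inv.app (R.obj K) ≫ R.map (eD.app K)))).bijective.comp Function.bijective_id |> fun hh => by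
          simpa [Iso.homCongr] using hh
    obtain ⟨x, hx⟩ := hb.2 y
    exact ⟨h x, hx⟩

variable (ε' : r' ⋙ e' ⟶ 𝟭 B) (hε' : ∀ M, IsIso (ε'.app (θ.obj (e.obj M)))) (c : θ ⋙ r' ≅ r ⋙ θ')

include μ hrε hεe hε' c in
/-- Full faithfulness out of extensions follows from the piece. -/
theorem bijective_of_piece (M : DerivedCategory A') (K : DerivedCategory A)
    (h : Function.Bijective (θ'.mapDerivedCategory.map :
      (r.mapDerivedCategory.obj (e.mapDerivedCategory.obj M) ⟶ r.mapDerivedCategory.obj K) → _)) :
    Function.Bijective (θ.mapDerivedCategory.map : (e.mapDerivedCategory.obj M ⟶ K) → _) := by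
  let T := θ.mapDerivedCategory
  let T' := θ'.mapDerivedCategory
  let R := r.mapDerivedCategory
  let R' := r'.mapDerivedCategory
  haveI := comp_preservesFiniteLimits θ r'
  haveI := comp_preservesFiniteColimits θ r'
  haveI := comp_preservesFiniteLimits r θ'
  haveI := comp_preservesFiniteColimits r θ'
  haveI := comp_preservesFiniteLimits e θ
  haveI := comp_preservesFiniteColimits e θ
  haveI : ∀ X : DerivedCategory A, IsIso ((mapD c.hom).app X) := fun X => by
    refine (NatTrans.isIso_app_iff_of_iso (mapD c.hom) (DerivedCategory.Q.objObjPreimageIso X).symm).2 ?_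
    exact isIso_mapD_app _ _ fun n => inferInstance
  haveI : IsIso (mapD c.hom) := NatIso.isIso_of_isIso_app _
  let cD : T ⋙ R' ≅ R ⋙ T' := compIso θ r' ≪≫ asIso (mapD c.hom) ≪≫ (compIso r θ').symm
  let eD' := counitD ε'
  haveI : IsIso (eD'.app (T.obj (e.mapDerivedCategory.obj M))) := by
    refine (NatTrans.isIso_app_iff_of_iso eD' ((compIso e θ).app M)).2 ?_
    exact isIso_counitD_app (A := B) ε'
      (L := ((e ⋙ θ).mapHomologicalComplex (ComplexShape.up ℤ)).obj (DerivedCategory.Q.objPreimage M))
      (((e ⋙ θ).mapDerivedCategoryFactors.app _).symm ≪≫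
        (e ⋙ θ).mapDerivedCategory.mapIso (DerivedCategory.Q.objObjPreimageIso M))
      (fun n => hε' _)
  have hinj : Function.Injective (R'.map : (T.obj (e.mapDerivedCategory.obj M) ⟶ T.obj K) → _) := fun g g' hg => by
    rw [← cancel_epi (eD'.app (T.obj (e.mapDerivedCategory.obj M)))]
    exact (eD'.naturality g).symm.trans
      ((congrArg (fun z => e'.mapDerivedCategory.map z ≫ eD'.app _) hg).trans (eD'.naturality g'))
  have hc : Function.Bijective fun x : e.mapDerivedCategory.obj M ⟶ K => R'.map (T.map x) := by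
    have : (fun x : e.mapDerivedCategory.obj M ⟶ K => R'.map (T.map x)) =
        fun x => cD.hom.app _ ≫ T'.map (R.map x) ≫ cD.inv.app _ := by
      funext x
      exact ((cD.hom.naturality_assoc x (cD.inv.app K)).symm.trans
        ((congrArg ((T ⋙ R').map x ≫ ·) (cD.hom_inv_id_app K)).trans (Category.comp_id _))).symm
    rw [this]
    exact ((cD.app _).homCongr (cD.app K)).symm.bijective.comp
      (h.comp (bijective_restrict r e μ ε hrε hεe M K))
  exact ⟨fun x y hxy => hc.1 (congrArg R'.map hxy), fun g => by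
    obtain ⟨x, hx⟩ := hc.2 (R'.map g)
    exact ⟨x, hinj hx⟩⟩

end Groth.Agent.FibSiteLib.DerivedLocal
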