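import Groth.Agent.H9Misc.PlusRB
import Groth.Agent.SiteCmpLib.Devissage

/-!
# Full faithfulness on bounded below derived categories is local
-/

set_option autoImplicit false
set_option linter.style.haveILetI false

universe w w' w'' v v' v'' u u' u'' t

open CategoryTheory CategoryTheory.Limits

noncomputable section

namespace Groth.Agent.FibSiteLib.PlusLocal

variable {A : Type u} [Category.{v} A] [Abelian A] [HasDerivedCategory.{w} A] [EnoughInjectives A]
  {B : Type u'} [Category.{v'} B] [Abelian B] [HasDerivedCategory.{w'} B]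
  (θ : A ⥤ B) [θ.Additive] [PreservesFiniteLimits θ] [PreservesFiniteColimits θ]

/-- For an exact functor the derived functor on bounded below objects is the induced one. -/
def plusιIso :
    θ.rightDerivedFunctorPlus ⋙ DerivedCategory.Plus.ι ≅ DerivedCategory.Plus.ι ⋙ θ.mapDerivedCategory :=
  haveI : IsIso θ.rightDerivedFunctorPlusUnit :=
    Functor.isIso_of_isRightDerivedFunctor_of_inverts (W := HomotopyCategory.Plus.quasiIso A) _ _
      H9Misc.PlusRB.inverts_of_exact
  Localization.liftNatIso DerivedCategory.Plus.Qh (HomotopyCategory.Plus.quasiIso A)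
    (DerivedCategory.Plus.Qh ⋙ θ.rightDerivedFunctorPlus ⋙ DerivedCategory.Plus.ι)
    (DerivedCategory.Plus.Qh ⋙ DerivedCategory.Plus.ι ⋙ θ.mapDerivedCategory) _ _
    ((Functor.associator _ _ _).symm ≪≫
      Functor.isoWhiskerRight (asIso θ.rightDerivedFunctorPlusUnit).symm _ ≪≫
      Functor.associator _ _ _ ≪≫
      Functor.isoWhiskerLeft θ.mapHomotopyCategoryPlus (Iso.refl _) ≪≫
      Functor.isoWhiskerLeft (HomotopyCategory.Plus.ι A) θ.mapDerivedCategoryFactorsh.symm)

variable [EnoughInjectives B] {G : B ⥤ A} [G.Additive] (adj : θ ⊣ G)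
  {ι : Type t} {A' : ι → Type u''} [∀ i, Category.{v''} (A' i)] [∀ i, Abelian (A' i)]
  [∀ i, HasDerivedCategory.{w''} (A' i)]
  (r : ∀ i, A ⥤ A' i) [∀ i, (r i).Additive] [∀ i, PreservesFiniteLimits (r i)]
  [∀ i, PreservesFiniteColimits (r i)]
  (e : ∀ i, A' i ⥤ A) [∀ i, (e i).Additive] [∀ i, PreservesFiniteLimits (e i)]
  [∀ i, PreservesFiniteColimits (e i)]

include adj in
/-- If the restrictions are jointly conservative, full faithfulness out of the extensions gives full
faithfulness. -/
theorem bijective_of_cover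
    (εD : ∀ i, (r i).mapDerivedCategory ⋙ (e i).mapDerivedCategory ⟶ 𝟭 (DerivedCategory A))
    (hεD : ∀ i X, IsIso ((r i).mapDerivedCategory.map ((εD i).app X)))
    (hcons : ∀ {X Y : A} (f : X ⟶ Y), (∀ i, IsIso ((r i).map f)) → IsIso f)
    (h : ∀ i (Z K : DerivedCategory.Plus A), Function.Bijective (θ.mapDerivedCategory.map :
      ((e i).mapDerivedCategory.obj ((r i).mapDerivedCategory.obj Z.obj) ⟶ K.obj) → _))
    (K L : DerivedCategory.Plus A) :
    Function.Bijective (θ.mapDerivedCategory.map : (K.obj ⟶ L.obj) → _) := by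
  obtain ⟨dadj⟩ := H9Misc.PlusRB.nonempty_adj adj
  let F := θ.rightDerivedFunctorPlus
  let c := plusιIso θ
  have conj : ∀ X Y : DerivedCategory.Plus A, Function.Bijective (F.map : (X ⟶ Y) → _) ↔
      Function.Bijective (θ.mapDerivedCategory.map : (X.obj ⟶ Y.obj) → _) := by
    intro X Y
    have hfun : (θ.mapDerivedCategory.map : (X.obj ⟶ Y.obj) → _) =
        ((c.app X).homCongr (c.app Y)) ∘ (DerivedCategory.Plus.ι.map : (F.obj X ⟶ F.obj Y) → _) ∘
          F.map ∘ (Functor.FullyFaithful.ofFullyFaithful DerivedCategory.Plus.ι).homEquiv.symm := by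
      funext g
      obtain ⟨x, rfl⟩ := (Functor.FullyFaithful.ofFullyFaithful DerivedCategory.Plus.ι).homEquiv.surjective g
      simp only [Function.comp_apply, Equiv.symm_apply_apply]
      exact ((c.inv.naturality_assoc x (c.hom.app Y)).symm.trans
        ((congrArg (_ ≫ ·) (c.inv_hom_id_app Y)).trans (Category.comp_id _))).symm
    rw [hfun, Function.Bijective.of_comp_iff' (Equiv.bijective _),
      Function.Bijective.of_comp_iff'
        ((Functor.FullyFaithful.ofFullyFaithful DerivedCategory.Plus.ι).map_bijective _ _)]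
    exact (Function.Bijective.of_comp_iff _ (Equiv.bijective _)).symm
  suffices hη : ∀ X, IsIso (dadj.unit.app X) by
    haveI : IsIso dadj.unit := NatIso.isIso_of_isIso_app _
    exact (conj K L).1 (dadj.fullyFaithfulLOfIsIsoUnit.map_bijective _ _)
  intro X
  let η : X.obj ⟶ ((F ⋙ G.rightDerivedFunctorPlus).obj X).obj := (dadj.unit.app X).hom
  have key : ∀ i, IsIso ((r i).mapDerivedCategory.map η) := by
    intro i
    let R := (r i).mapDerivedCategory
    let E := (e i).mapDerivedCategory
    let Z : DerivedCategory.Plus A := (F ⋙ G.rightDerivedFunctorPlus).obj X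
    have hpost : ∀ W : DerivedCategory.Plus A, Function.Bijective
        (fun g : E.obj (R.obj W.obj) ⟶ X.obj => g ≫ η) := by
      intro W
      obtain ⟨n, hn⟩ := W.property
      let Y : DerivedCategory.Plus A :=
        ⟨E.obj (R.obj W.obj), n, SiteCmpLib.Devissage.isGE_map _ n (SiteCmpLib.Devissage.isGE_map _ n hn)⟩
      have hb : Function.Bijective fun g : Y ⟶ X => g ≫ dadj.unit.app X := by
        have : (fun g : Y ⟶ X => g ≫ dadj.unit.app X) = fun g => dadj.homEquiv _ _ (F.map g) := by
          funext g
          rw [dadj.homEquiv_unit]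
          exact dadj.unit.naturality g
        rw [this]
        exact (Equiv.bijective _).comp ((conj Y X).2 (h i W X))
      refine ⟨fun g g' hh => ?_, fun k => ?_⟩
      · exact congrArg InducedCategory.Hom.hom (hb.1 (a₁ := ObjectProperty.homMk g) (a₂ := ObjectProperty.homMk g')
          (ObjectProperty.hom_ext _ hh))
      · obtain ⟨g, hg⟩ := hb.2 (ObjectProperty.homMk k)
        exact ⟨g.hom, congrArg InducedCategory.Hom.hom hg⟩
    obtain ⟨g, hg⟩ := (hpost Z).2 ((εD i).app Z.obj)
    haveI := hεD i Z.obj
    haveI := hεD i X.obj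
    have h1 : E.map (R.map η) ≫ g = (εD i).app X.obj :=
      (hpost X).1 (((Category.assoc _ _ _).trans (congrArg (_ ≫ ·) hg)).trans ((εD i).naturality η))
    have h2 : R.map (E.map (R.map η)) ≫ R.map ((εD i).app Z.obj) = R.map ((εD i).app X.obj) ≫ R.map η := by
      rw [← Functor.map_comp, ← Functor.map_comp]
      exact congrArg R.map ((εD i).naturality η)
    have h3 : R.map (E.map (R.map η)) =
        R.map ((εD i).app X.obj) ≫ R.map η ≫ inv (R.map ((εD i).app Z.obj)) := by
      rw [← Category.assoc, ← h2, Category.assoc, IsIso.hom_inv_id, Category.comp_id]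
    refine ⟨inv (R.map ((εD i).app Z.obj)) ≫ R.map g, ?_, ?_⟩
    · rw [← cancel_epi (R.map ((εD i).app X.obj)), ← Category.assoc (R.map η), ← Category.assoc _ (R.map η ≫ _),
        ← h3, ← Functor.map_comp, h1]
      exact (Category.comp_id _).symm
    · rw [Category.assoc, ← Functor.map_comp, IsIso.inv_comp_eq, Category.comp_id]
      exact congrArg R.map hg
  haveI : ∀ n, IsIso ((DerivedCategory.homologyFunctor A n).map η) := fun n => hcons _ fun i => by
    haveI := key i
    exact (NatIso.isIso_map_iff (KFlatLib.mapDCHomologyIso (r i) n) η).1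
      (inferInstanceAs (IsIso ((DerivedCategory.homologyFunctor (A' i) n).map
        ((r i).mapDerivedCategory.map η))))
  haveI : IsIso η := (DerivedCategory.isIso_iff A η).2 inferInstance
  exact (isIso_iff_of_reflects_iso _ DerivedCategory.Plus.ι).1 (inferInstanceAs (IsIso η))

end Groth.Agent.FibSiteLib.PlusLocal
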