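import Groth.Agent.FibSiteLib.SplitDescent
import Groth.Agent.FibSiteLib.Total
import Groth.Prelude.Def_FibDesc

/-!
# Split augmented indexed spaces are of cohomological descent
-/

set_option autoImplicit false
set_option backward.isDefEq.respectTransparency false
set_option backward.isDefEq.respectTransparency.types false

universe u

open CategoryTheory CategoryTheory.Limits Opposite TopologicalSpace Pseudofunctor.CoGrothendieck

noncomputable section

namespace Groth.Agent.FibSiteLib.TopSplit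

variable {D : Type} [SmallCategory D] (Y : (WithInitial D)ᵒᵖ ⥤ TopCat.{u})

/-- The augmented family. -/
abbrev FY := FibDesc.topAug Y

/-- Base changes of the augmented family have thin fibres. -/
lemma hom_ext' {𝒯 : Type} [SmallCategory 𝒯] (ψ : 𝒯 ⥤ (WithInitial D)ᵒᵖ)
    {X Z : ∫ᶜ (FibSite.baseChange (FY Y) ψ)} (f g : X ⟶ Z) (h : f.base = g.base) : f = g := by
  refine Hom.ext _ _ h ?_
  exact Subsingleton.elim (α := (X.fiber : Opens (Y.obj (ψ.obj X.base))) ⟶ _) _ _

lemma hom_ext {X Z : ∫ᶜ (FY Y)} (f g : X ⟶ Z) (h : f.base = g.base) : f = g := by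
  refine Hom.ext _ _ h ?_
  exact Subsingleton.elim (α := (X.fiber : Opens (Y.obj X.base)) ⟶ _) _ _

lemma hom_extPart {X Z : ∫ᶜ (FibDesc.part (FY Y))} (f g : X ⟶ Z) (h : f.base = g.base) : f = g :=
  hom_ext' Y (FibDesc.toAug D) f g h

/-- The open set of an object. -/
abbrev fibO (X : ∫ᶜ (FY Y)) : Opens (Y.obj X.base) := X.fiber

/-- A morphism of the augmented total category. -/
def mk {X Z : ∫ᶜ (FY Y)} (b : X.base ⟶ Z.base)
    (h : fibO Y X ≤ (Opens.map (Y.map b)).obj (fibO Y Z)) : X ⟶ Z :=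
  ⟨b, homOfLE (X := Opens (Y.obj X.base)) h⟩

lemma le_of_hom {X Z : ∫ᶜ (FY Y)} (f : X ⟶ Z) :
    fibO Y X ≤ (Opens.map (Y.map f.base)).obj (fibO Y Z) :=
  leOfHom (X := Opens (Y.obj X.base)) (show fibO Y X ⟶ _ from f.fiber)

lemma le_map_id {S : (WithInitial D)ᵒᵖ} {A B : Opens (Y.obj S)} (h : A ≤ B) :
    A ≤ (Opens.map (Y.map (𝟙 S))).obj B := by
  rw [Y.map_id]
  exact h

lemma map_obj_map_obj {A B C : TopCat.{u}} (f : A ⟶ B) (g : B ⟶ C) (W : Opens C) :
    (Opens.map f).obj ((Opens.map g).obj W) = (Opens.map (f ≫ g)).obj W := rfl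

theorem isPreFibSite : FibSite.IsPreFibSite (FY Y) (FibDesc.topAugTop Y) :=
  fun R S b => inferInstanceAs
    ((Opens.map (Y.map b)).IsContinuous (Opens.grothendieckTopology _) (Opens.grothendieckTopology _))

section baseChange

variable {𝒯 : Type} [SmallCategory 𝒯] (ψ : 𝒯 ⥤ (WithInitial D)ᵒᵖ)

theorem isPreFibSite_baseChange :
    FibSite.IsPreFibSite (FibSite.baseChange (FY Y) ψ) (FibSite.baseChangeTop (FibDesc.topAugTop Y) ψ) :=
  fun R S b => isPreFibSite Y (ψ.map b)

variable {𝒰 : Type} [SmallCategory 𝒰] (φ : 𝒰 ⥤ 𝒯)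

/-- Fibre inclusions commute with base change. -/
def ιBaseChangeIso (S : 𝒰) :
    ι (FibSite.baseChange (FibSite.baseChange (FY Y) ψ) φ) S ⋙
        FibSite.baseChangeFunctor (FibSite.baseChange (FY Y) ψ) φ ≅
      ι (FibSite.baseChange (FY Y) ψ) (φ.obj S) :=
  NatIso.ofComponents (fun U => Iso.refl _) (fun g => hom_ext' Y ψ _ _ (by
    show (φ.map (𝟙 S)) ≫ 𝟙 _ = 𝟙 _ ≫ 𝟙 (φ.obj S)
    simp))

theorem isContinuous_baseChange₂ :
    (FibSite.baseChangeFunctor (FibSite.baseChange (FY Y) ψ) φ).IsContinuous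
      (FibSite.totalTopology (FibSite.baseChange (FibSite.baseChange (FY Y) ψ) φ)
        (FibSite.baseChangeTop (FibSite.baseChangeTop (FibDesc.topAugTop Y) ψ) φ))
      (FibSite.totalTopology (FibSite.baseChange (FY Y) ψ) (FibSite.baseChangeTop (FibDesc.topAugTop Y) ψ)) := by
  have hF' : FibSite.IsPreFibSite (FibSite.baseChange (FibSite.baseChange (FY Y) ψ) φ)
      (FibSite.baseChangeTop (FibSite.baseChangeTop (FibDesc.topAugTop Y) ψ) φ) :=
    fun R S b => isPreFibSite_baseChange Y ψ (φ.map b)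
  refine (isContinuous_total_iff hF' _ _).2 fun S => ?_
  haveI := isContinuous_ι (isPreFibSite_baseChange Y ψ) (φ.obj S)
  exact Functor.isContinuous_of_iso (ιBaseChangeIso Y ψ φ S).symm _ _

theorem isCocontinuous_baseChange₂ :
    (FibSite.baseChangeFunctor (FibSite.baseChange (FY Y) ψ) φ).IsCocontinuous
      (FibSite.totalTopology (FibSite.baseChange (FibSite.baseChange (FY Y) ψ) φ)
        (FibSite.baseChangeTop (FibSite.baseChangeTop (FibDesc.topAugTop Y) ψ) φ))
      (FibSite.totalTopology (FibSite.baseChange (FY Y) ψ) (FibSite.baseChangeTop (FibDesc.topAugTop Y) ψ)) where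
  cover_lift {X T} hT := by
    have hF' : FibSite.IsPreFibSite (FibSite.baseChange (FibSite.baseChange (FY Y) ψ) φ)
        (FibSite.baseChangeTop (FibSite.baseChangeTop (FibDesc.topAugTop Y) ψ) φ) :=
      fun R S b => isPreFibSite_baseChange Y ψ (φ.map b)
    obtain ⟨T', hT', hle⟩ := (mem_totalTopology_iff (isPreFibSite_baseChange Y ψ) _ T).1 hT
    refine (mem_totalTopology_iff hF' _ _).2 ⟨T', hT', ?_⟩
    rintro Z _ ⟨W, h, k, hh, rfl⟩
    show T.arrows ((FibSite.baseChangeFunctor _ φ).map _)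
    rw [Functor.map_comp]
    refine T.downward_closed ?_ _
    have heq : (FibSite.baseChangeFunctor (FibSite.baseChange (FY Y) ψ) φ).map
        ((ι (FibSite.baseChange (FibSite.baseChange (FY Y) ψ) φ) X.base).map h) =
          (ι (FibSite.baseChange (FY Y) ψ) (φ.obj X.base)).map h := hom_ext' Y ψ _ _ (φ.map_id X.base)
    exact Eq.mpr (congrArg (fun q => T.arrows q) heq)
      (hle _ (Sieve.image_mem_functorPushforward (ι (FibSite.baseChange (FY Y) ψ) (φ.obj X.base)) _ hh))

/-- Fibre inclusions commute with base change. -/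
def ιBaseChangeIso₁ (S : 𝒯) :
    ι (FibSite.baseChange (FY Y) ψ) S ⋙ FibSite.baseChangeFunctor (FY Y) ψ ≅ ι (FY Y) (ψ.obj S) :=
  NatIso.ofComponents (fun U => Iso.refl _) (fun g => hom_ext Y _ _ (by
    show (ψ.map (𝟙 S)) ≫ 𝟙 _ = 𝟙 _ ≫ 𝟙 (ψ.obj S)
    simp))

theorem isContinuous_baseChange :
    (FibSite.baseChangeFunctor (FY Y) ψ).IsContinuous
      (FibSite.totalTopology (FibSite.baseChange (FY Y) ψ) (FibSite.baseChangeTop (FibDesc.topAugTop Y) ψ))
      (FibSite.totalTopology (FY Y) (FibDesc.topAugTop Y)) := by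
  refine (isContinuous_total_iff (isPreFibSite_baseChange Y ψ) _ _).2 fun S => ?_
  haveI := isContinuous_ι (isPreFibSite Y) (ψ.obj S)
  exact Functor.isContinuous_of_iso (ιBaseChangeIso₁ Y ψ S).symm _ _

theorem isCocontinuous_baseChange :
    (FibSite.baseChangeFunctor (FY Y) ψ).IsCocontinuous
      (FibSite.totalTopology (FibSite.baseChange (FY Y) ψ) (FibSite.baseChangeTop (FibDesc.topAugTop Y) ψ))
      (FibSite.totalTopology (FY Y) (FibDesc.topAugTop Y)) where
  cover_lift {X T} hT := by
    obtain ⟨T', hT', hle⟩ := (mem_totalTopology_iff (isPreFibSite Y) _ T).1 hT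
    refine (mem_totalTopology_iff (isPreFibSite_baseChange Y ψ) _ _).2 ⟨T', hT', ?_⟩
    rintro Z _ ⟨W, h, k, hh, rfl⟩
    show T.arrows ((FibSite.baseChangeFunctor _ ψ).map _)
    rw [Functor.map_comp]
    refine T.downward_closed ?_ _
    have heq : (FibSite.baseChangeFunctor (FY Y) ψ).map ((ι (FibSite.baseChange (FY Y) ψ) X.base).map h) =
        (ι (FY Y) (ψ.obj X.base)).map h := hom_ext Y _ _ (ψ.map_id X.base)
    exact Eq.mpr (congrArg (fun q => T.arrows q) heq)
      (hle _ (Sieve.image_mem_functorPushforward (ι (FY Y) (ψ.obj X.base)) _ hh))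

end baseChange

/-- The fibre inclusion of the base is full. -/
theorem full_eps : (FibDesc.eps (FY Y)).Full where
  map_surjective {U V} k := by
    have hb : k.base = 𝟙 _ := Quiver.Hom.unop_inj (WithInitial.starInitial.hom_ext _ _)
    have h := le_of_hom Y k
    rw [hb] at h
    exact ⟨homOfLE (X := Opens (Y.obj (FibDesc.bot D))) (by rw [Y.map_id] at h; exact h), hom_ext Y _ _ hb.symm⟩

/-- The fibre inclusion of the base is faithful. -/
theorem faithful_eps : (FibDesc.eps (FY Y)).Faithful where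
  map_injective {U V} _ _ _ := Subsingleton.elim (α := (U : Opens (Y.obj (FibDesc.bot D))) ⟶ V) _ _

/-- The fibre inclusion of the base is flat. -/
theorem flat_eps : RepresentablyFlat (FibDesc.eps (FY Y)) where
  cofiltered X :=
    haveI : IsCofilteredOrEmpty (StructuredArrow X (FibDesc.eps (FY Y))) :=
      { cone_objs := fun a b => by
          let U : Opens (Y.obj (FibDesc.bot D)) := (show Opens (Y.obj (FibDesc.bot D)) from a.right) ⊓ (show Opens (Y.obj (FibDesc.bot D)) from b.right)
          let f : X ⟶ (FibDesc.eps (FY Y)).obj U := mk Y a.hom.base (by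
            intro x hx
            refine ⟨le_of_hom Y a.hom hx, ?_⟩
            rw [show a.hom.base = b.hom.base from Quiver.Hom.unop_inj (WithInitial.starInitial.hom_ext _ _)]
            exact le_of_hom Y b.hom hx)
          exact ⟨StructuredArrow.mk f, StructuredArrow.homMk (homOfLE (X := Opens (Y.obj (FibDesc.bot D))) inf_le_left)
              (hom_ext Y _ _ (Quiver.Hom.unop_inj (WithInitial.starInitial.hom_ext _ _))),
            StructuredArrow.homMk (homOfLE (X := Opens (Y.obj (FibDesc.bot D))) inf_le_right)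
              (hom_ext Y _ _ (Quiver.Hom.unop_inj (WithInitial.starInitial.hom_ext _ _))), trivial⟩
        cone_maps := fun a b f g => ⟨a, 𝟙 a, congrArg (𝟙 a ≫ ·) (StructuredArrow.ext _ _
          (Subsingleton.elim (α := (a.right : Opens (Y.obj (FibDesc.bot D))) ⟶ b.right) _ _))⟩ }
    haveI : Nonempty (StructuredArrow X (FibDesc.eps (FY Y))) :=
      ⟨StructuredArrow.mk (Y := (⊤ : Opens (Y.obj (FibDesc.bot D))))
        (mk Y (X := X) (WithInitial.starInitial.to X.base.unop).op (fun x _ => trivial))⟩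
    {}

variable (sh : WithInitial D ⥤ D) (incr : 𝟭 (WithInitial D) ⟶ sh ⋙ WithInitial.incl)

/-- The shifted family. -/
abbrev shFam := FibSite.baseChange (FibDesc.part (FY Y)) sh.op

/-- Its topologies. -/
abbrev shTop : FibSite.Topologies (shFam Y sh) :=
  FibSite.baseChangeTop (FibDesc.partTop (FY Y) (FibDesc.topAugTop Y)) sh.op

/-- Morphisms of the shifted family are determined by their base. -/
lemma hom_extShift {X Z : ∫ᶜ (shFam Y sh)} (f g : X ⟶ Z) (h : f.base = g.base) : f = g := by
  refine Hom.ext _ _ h ?_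
  exact Subsingleton.elim (α := (X.fiber : Opens (Y.obj ((FibDesc.toAug D).obj (sh.op.obj X.base)))) ⟶ _) _ _

/-- The open set of an object of the shifted family. -/
abbrev fibS (X : ∫ᶜ (shFam Y sh)) : Opens (Y.obj ((FibDesc.toAug D).obj (sh.op.obj X.base))) := X.fiber

/-- A morphism of the shifted total category. -/
def mkShift {X Z : ∫ᶜ (shFam Y sh)} (b : X.base ⟶ Z.base)
    (h : fibS Y sh X ≤
      (Opens.map (Y.map ((FibDesc.toAug D).map (sh.op.map b)))).obj (fibS Y sh Z)) : X ⟶ Z :=
  ⟨b, homOfLE (X := Opens (Y.obj ((FibDesc.toAug D).obj (sh.op.obj X.base)))) h⟩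

lemma le_of_homShift {X Z : ∫ᶜ (shFam Y sh)} (f : X ⟶ Z) :
    fibS Y sh X ≤
      (Opens.map (Y.map ((FibDesc.toAug D).map (sh.op.map f.base)))).obj (fibS Y sh Z) :=
  leOfHom (X := Opens (Y.obj ((FibDesc.toAug D).obj (sh.op.obj X.base)))) (show fibS Y sh X ⟶ _ from f.fiber)

variable (s : ∀ S : (WithInitial D)ᵒᵖ, Y.obj S ⟶ Y.obj ((sh ⋙ WithInitial.incl).op.obj S))
  (hs : ∀ ⦃R S : (WithInitial D)ᵒᵖ⦄ (b : R ⟶ S),
    s R ≫ Y.map ((sh ⋙ WithInitial.incl).op.map b) = Y.map b ≫ s S)
  (hsec : ∀ S : (WithInitial D)ᵒᵖ, s S ≫ Y.map (incr.app S.unop).op = 𝟙 (Y.obj S))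

/-- Inverse image along the section. -/
def Φ : ∫ᶜ (shFam Y sh) ⥤ ∫ᶜ (FY Y) where
  obj X := ⟨X.base, (Opens.map (s X.base)).obj (fibS Y sh X)⟩
  map {X Z} f := mk Y f.base (by
    refine le_trans ((Opens.map (s X.base)).map (homOfLE (le_of_homShift Y sh f))).le ?_
    rw [map_obj_map_obj, show (FibDesc.toAug D).map (sh.op.map f.base) =
      (sh ⋙ WithInitial.incl).op.map f.base from rfl, hs, ← map_obj_map_obj])
  map_id X := hom_ext Y _ _ rfl
  map_comp f g := hom_ext Y _ _ rfl

/-- Inverse image along the face. -/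
def Q : ∫ᶜ (FY Y) ⥤ ∫ᶜ (shFam Y sh) where
  obj X := ⟨X.base, (Opens.map (Y.map (incr.app X.base.unop).op)).obj (fibO Y X)⟩
  map {X Z} f := mkShift Y sh f.base (by
    refine le_trans ((Opens.map (Y.map (incr.app X.base.unop).op)).map (homOfLE (le_of_hom Y f))).le ?_
    rw [map_obj_map_obj, map_obj_map_obj, ← Y.map_comp, ← Y.map_comp]
    have e : (incr.app X.base.unop).op ≫ f.base =
        (FibDesc.toAug D).map (sh.op.map f.base) ≫ (incr.app Z.base.unop).op :=
      congrArg Quiver.Hom.op (incr.naturality f.base.unop)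
    rw [e])
  map_id X := hom_extShift Y sh _ _ rfl
  map_comp f g := hom_extShift Y sh _ _ rfl

include hsec in
lemma fiber_section (X : ∫ᶜ (FY Y)) :
    ((Opens.map (s X.base)).obj ((Opens.map (Y.map (incr.app X.base.unop).op)).obj (fibO Y X)) :
      Opens (Y.obj X.base)) = fibO Y X := by
  rw [map_obj_map_obj, hsec]
  rfl

/-- The section property on total categories. -/
def σ : Q Y sh incr ⋙ Φ Y sh s hs ≅ 𝟭 (∫ᶜ (FY Y)) :=
  NatIso.ofComponents
    (fun X =>
      { hom := mk Y (X := (Q Y sh incr ⋙ Φ Y sh s hs).obj X) (Z := X) (𝟙 X.base)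
          (le_map_id Y (S := X.base) (fiber_section Y sh incr s hsec X).le)
        inv := mk Y (X := X) (Z := (Q Y sh incr ⋙ Φ Y sh s hs).obj X) (𝟙 X.base)
          (le_map_id Y (S := X.base) (fiber_section Y sh incr s hsec X).ge)
        hom_inv_id := hom_ext Y _ _ (Category.id_comp _)
        inv_hom_id := hom_ext Y _ _ (Category.id_comp _) })
    (fun f => hom_ext Y _ _ ((Category.comp_id _).trans (Category.id_comp _).symm))

/-- The total category of the shifted family over that of the family. -/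
abbrev P : ∫ᶜ (shFam Y sh) ⥤ ∫ᶜ (FibDesc.part (FY Y)) :=
  FibSite.baseChangeFunctor (FibDesc.part (FY Y)) sh.op

/-- The face. -/
def η : Q Y sh incr ⋙ P Y sh ⋙ FibDesc.incl (FY Y) ⟶ 𝟭 (∫ᶜ (FY Y)) where
  app X := mk Y (X := (Q Y sh incr ⋙ P Y sh ⋙ FibDesc.incl (FY Y)).obj X) (Z := X) (incr.app X.base.unop).op le_rfl
  naturality X Z f := hom_ext Y _ _ (congrArg Quiver.Hom.op (incr.naturality f.base.unop)).symm

/-- The face within the family. -/
def ζ : FibDesc.incl (FY Y) ⋙ Q Y sh incr ⋙ P Y sh ⟶ 𝟭 (∫ᶜ (FibDesc.part (FY Y))) where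
  app X := ⟨(WithInitial.incl.preimage (incr.app (WithInitial.incl.obj X.base.unop))).op,
    homOfLE (X := Opens (Y.obj ((FibDesc.toAug D).obj ((FibDesc.incl (FY Y) ⋙ Q Y sh incr ⋙ P Y sh).obj X).base))) (by
      show _ ≤ (Opens.map (Y.map (WithInitial.incl.map
        (WithInitial.incl.preimage (incr.app (WithInitial.incl.obj X.base.unop)))).op)).obj X.fiber
      rw [Functor.map_preimage]
      exact le_rfl)⟩
  naturality X Z f := hom_extPart Y _ _ (Quiver.Hom.unop_inj (WithInitial.incl.map_injective (by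
    show WithInitial.incl.map (WithInitial.incl.preimage _ ≫ sh.map (WithInitial.incl.map f.base.unop)) =
      WithInitial.incl.map (f.base.unop ≫ WithInitial.incl.preimage _)
    rw [Functor.map_comp, Functor.map_comp, Functor.map_preimage, Functor.map_preimage]
    exact (incr.naturality (WithInitial.incl.map f.base.unop)).symm)))

lemma hζ (X : ∫ᶜ (FibDesc.part (FY Y))) :
    (FibDesc.incl (FY Y)).map ((ζ Y sh incr).app X) = (η Y sh incr).app ((FibDesc.incl (FY Y)).obj X) :=
  hom_ext Y _ _ (congrArg Quiver.Hom.op (WithInitial.incl.map_preimage _))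

lemma hbij (X : ∫ᶜ (shFam Y sh)) (U : (FY Y).obj ⟨op (FibDesc.bot D)⟩) :
    Function.Bijective fun k : X ⟶ (Q Y sh incr).obj ((FibDesc.eps (FY Y)).obj U) =>
      (FibDesc.incl (FY Y)).map ((P Y sh).map k) ≫ (η Y sh incr).app ((FibDesc.eps (FY Y)).obj U) := by
  refine ⟨fun k k' _ => hom_extShift Y sh _ _ (Quiver.Hom.unop_inj (WithInitial.starInitial.hom_ext _ _)),
    fun l => ⟨mkShift Y sh (X := X) (Z := (Q Y sh incr).obj ((FibDesc.eps (FY Y)).obj U))
      (WithInitial.starInitial.to X.base.unop).op ?_,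
      hom_ext Y _ _ (Quiver.Hom.unop_inj (WithInitial.starInitial.hom_ext _ _))⟩⟩
  refine le_trans (le_of_hom Y l) (le_of_eq ?_)
  show _ = (Opens.map _).obj ((Opens.map _).obj U)
  rw [map_obj_map_obj, ← Y.map_comp]
  congr 3

include incr in
/-- Inverse image along the section is flat. -/
theorem flat_Φ : RepresentablyFlat (Φ Y sh s hs) where
  cofiltered X :=
    haveI : IsCofilteredOrEmpty (StructuredArrow X (Φ Y sh s hs)) :=
      { cone_objs := fun a b => by
          let V : Opens (Y.obj ((FibDesc.toAug D).obj (sh.op.obj X.base))) :=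
            (Opens.map (Y.map ((FibDesc.toAug D).map (sh.op.map a.hom.base)))).obj (fibS Y sh a.right) ⊓
              (Opens.map (Y.map ((FibDesc.toAug D).map (sh.op.map b.hom.base)))).obj (fibS Y sh b.right)
          let C : ∫ᶜ (shFam Y sh) := ⟨X.base, V⟩
          let f : X ⟶ (Φ Y sh s hs).obj C := mk Y (X := X) (𝟙 X.base) (by
            have ha : fibO Y X ≤ (Opens.map (s X.base)).obj ((Opens.map (Y.map ((FibDesc.toAug D).map (sh.op.map a.hom.base)))).obj (fibS Y sh a.right)) := by
              refine le_trans (le_of_hom Y a.hom) (le_of_eq ?_)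
              show (Opens.map _).obj ((Opens.map _).obj _) = (Opens.map _).obj ((Opens.map _).obj _)
              rw [map_obj_map_obj, map_obj_map_obj]
              exact congrArg (fun q => (Opens.map q).obj _) (hs a.hom.base).symm
            have hb : fibO Y X ≤ (Opens.map (s X.base)).obj ((Opens.map (Y.map ((FibDesc.toAug D).map (sh.op.map b.hom.base)))).obj (fibS Y sh b.right)) := by
              refine le_trans (le_of_hom Y b.hom) (le_of_eq ?_)
              show (Opens.map _).obj ((Opens.map _).obj _) = (Opens.map _).obj ((Opens.map _).obj _)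
              rw [map_obj_map_obj, map_obj_map_obj]
              exact congrArg (fun q => (Opens.map q).obj _) (hs b.hom.base).symm
            exact le_map_id Y (S := X.base) (fun x hx => ⟨ha hx, hb hx⟩))
          exact ⟨StructuredArrow.mk f,
            StructuredArrow.homMk (mkShift Y sh a.hom.base inf_le_left) (hom_ext Y _ _ (Category.id_comp _)),
            StructuredArrow.homMk (mkShift Y sh b.hom.base inf_le_right) (hom_ext Y _ _ (Category.id_comp _)),
            trivial⟩
        cone_maps := fun a b m₁ m₂ => by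
          let V : Opens (Y.obj ((FibDesc.toAug D).obj (sh.op.obj X.base))) :=
            (Opens.map (Y.map ((FibDesc.toAug D).map (sh.op.map a.hom.base)))).obj (fibS Y sh a.right)
          let C : ∫ᶜ (shFam Y sh) := ⟨X.base, V⟩
          let f : X ⟶ (Φ Y sh s hs).obj C := mk Y (X := X) (𝟙 X.base) (by
            refine le_map_id Y (S := X.base) ?_
            refine le_trans (le_of_hom Y a.hom) (le_of_eq ?_)
            show (Opens.map _).obj ((Opens.map _).obj _) = (Opens.map _).obj ((Opens.map _).obj _)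
            rw [map_obj_map_obj, map_obj_map_obj]
            exact congrArg (fun q => (Opens.map q).obj _) (hs a.hom.base).symm)
          refine ⟨StructuredArrow.mk f,
            StructuredArrow.homMk (mkShift Y sh a.hom.base le_rfl) (hom_ext Y _ _ (Category.id_comp _)), ?_⟩
          refine StructuredArrow.ext _ _ (hom_extShift Y sh _ _ ?_)
          show a.hom.base ≫ m₁.right.base = a.hom.base ≫ m₂.right.base
          have h1 := congrArg Hom.base (StructuredArrow.w m₁)
          have h2 := congrArg Hom.base (StructuredArrow.w m₂)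
          exact h1.trans h2.symm }
    haveI : Nonempty (StructuredArrow X (Φ Y sh s hs)) :=
      ⟨StructuredArrow.mk (Y := (⟨X.base, (⊤ : Opens _)⟩ : ∫ᶜ (shFam Y sh)))
        (mk Y (X := X) (Z := ⟨X.base, (Opens.map (s X.base)).obj ⊤⟩) (𝟙 X.base) (fun x _ => trivial))⟩
    {}

theorem isContinuous_Φ :
    (Φ Y sh s hs).IsContinuous (FibSite.totalTopology (shFam Y sh) (shTop Y sh))
      (FibSite.totalTopology (FY Y) (FibDesc.topAugTop Y)) := by
  have hF' : FibSite.IsPreFibSite (shFam Y sh) (shTop Y sh) :=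
    fun R S b => isPreFibSite_baseChange Y (FibDesc.toAug D) (sh.op.map b)
  refine (isContinuous_total_iff hF' _ _).2 fun S => ?_
  haveI : (show (shFam Y sh).obj ⟨op S⟩ ⥤ (FY Y).obj ⟨op S⟩ from Opens.map (s S)).IsContinuous
      (shTop Y sh S) (FibDesc.topAugTop Y S) :=
    inferInstanceAs ((Opens.map (s S)).IsContinuous (Opens.grothendieckTopology _) (Opens.grothendieckTopology _))
  haveI := isContinuous_ι (isPreFibSite Y) S
  let i : (show (shFam Y sh).obj ⟨op S⟩ ⥤ (FY Y).obj ⟨op S⟩ from Opens.map (s S)) ⋙ ι (FY Y) S ≅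
      ι (shFam Y sh) S ⋙ Φ Y sh s hs :=
    NatIso.ofComponents (fun U => Iso.refl _) (fun g => hom_ext Y _ _ rfl)
  haveI := Functor.isContinuous_comp (show (shFam Y sh).obj ⟨op S⟩ ⥤ (FY Y).obj ⟨op S⟩ from Opens.map (s S))
    (ι (FY Y) S) (shTop Y sh S) (FibDesc.topAugTop Y S) (FibSite.totalTopology (FY Y) (FibDesc.topAugTop Y))
  exact Functor.isContinuous_of_iso i _ _

attribute [local instance] HasDerivedCategory.standard

include sh incr s hs hsec in
/-- A split augmented indexed space is of cohomological descent. -/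
theorem isCohDescentTop : FibDesc.IsCohDescentTop Y := by
  haveI he := isContinuous_ι (isPreFibSite Y) (FibDesc.bot D)
  haveI := isCocontinuous_ι (isPreFibSite Y) (FibDesc.bot D)
  haveI := full_eps Y
  haveI := faithful_eps Y
  haveI := flat_eps Y
  haveI hj : (FibDesc.incl (FY Y)).IsContinuous (FibDesc.totPart (FY Y) (FibDesc.topAugTop Y))
      (FibDesc.totAug (FY Y) (FibDesc.topAugTop Y)) := isContinuous_baseChange Y (FibDesc.toAug D)
  haveI hj' : (FibDesc.incl (FY Y)).IsCocontinuous (FibDesc.totPart (FY Y) (FibDesc.topAugTop Y))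
      (FibDesc.totAug (FY Y) (FibDesc.topAugTop Y)) := isCocontinuous_baseChange Y (FibDesc.toAug D)
  haveI : (P Y sh).IsContinuous (FibSite.totalTopology (shFam Y sh) (shTop Y sh))
      (FibDesc.totPart (FY Y) (FibDesc.topAugTop Y)) := isContinuous_baseChange₂ Y (FibDesc.toAug D) sh.op
  haveI : (P Y sh).IsCocontinuous (FibSite.totalTopology (shFam Y sh) (shTop Y sh))
      (FibDesc.totPart (FY Y) (FibDesc.topAugTop Y)) := isCocontinuous_baseChange₂ Y (FibDesc.toAug D) sh.op
  haveI := isContinuous_Φ Y sh s hs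
  haveI := flat_Φ Y sh incr s hs
  haveI hr : ((FibDesc.eps (FY Y)).sheafPushforwardContinuous AddCommGrpCat.{u}
      (FibDesc.topAugTop Y (FibDesc.bot D)) (FibDesc.totAug (FY Y) (FibDesc.topAugTop Y))).IsRightAdjoint :=
    inferInstance
  obtain ⟨h1, h2, h3⟩ := SplitDescent.exists_exact_bijective
    (JB := FibDesc.topAugTop Y (FibDesc.bot D)) (J₀ := FibDesc.totPart (FY Y) (FibDesc.topAugTop Y))
    (J := FibDesc.totAug (FY Y) (FibDesc.topAugTop Y)) (J' := FibSite.totalTopology (shFam Y sh) (shTop Y sh))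
    (FibDesc.eps (FY Y)) (FibDesc.incl (FY Y)) (P Y sh) (Φ Y sh s hs) (Q Y sh incr)
    (σ Y sh incr s hs hsec) (η Y sh incr) (ζ Y sh incr) (hζ Y sh incr) (hbij Y sh incr)
  exact ⟨he, hr, hj, hj', fun _ => inferInstance, h1, fun K L => h3 K.obj L.obj⟩

end Groth.Agent.FibSiteLib.TopSplit
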