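import Groth.Agent.FibSiteLib.TopFam
import Groth.Agent.FibSiteLib.TopSplit
import Groth.Agent.FibSiteLib.DerivedLocal
import Groth.Agent.FibSiteLib.PlusLocal
import Mathlib.CategoryTheory.Adjunction.Additive

/-!
# Cohomological descent of augmented indexed spaces is local on the base
-/

set_option autoImplicit false
set_option backward.isDefEq.respectTransparency false
set_option backward.isDefEq.respectTransparency.types false
set_option linter.style.haveILetI false

universe u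

open CategoryTheory CategoryTheory.Limits Opposite TopologicalSpace Topology Pseudofunctor.CoGrothendieck

noncomputable section

namespace Groth.Agent.FibSiteLib.TopLocal

variable {D : Type} [SmallCategory D] {Y Y' : (WithInitial D)ᵒᵖ ⥤ TopCat.{u}} (α : Y' ⟶ Y)
  (hα : ∀ x, IsOpenEmbedding (α.app x))

/-- The map to the base point. -/
abbrev toBot (x : (WithInitial D)ᵒᵖ) : x ⟶ FibDesc.bot D := (WithInitial.starInitial.to x.unop).op

variable (hbot : ∀ (x : (WithInitial D)ᵒᵖ) (s : Y.obj x),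
  Y.map (toBot x) s ∈ Set.range (α.app (FibDesc.bot D)) → s ∈ Set.range (α.app x))

include hbot in
lemma hcart {S T : (WithInitial D)ᵒᵖ} (b : S ⟶ T) (s : Y.obj S) (h : Y.map b s ∈ Set.range (α.app T)) :
    s ∈ Set.range (α.app S) := by
  obtain ⟨w, hw⟩ := h
  refine hbot S s ⟨Y'.map (toBot T) w, ?_⟩
  rw [← TopFam.β_map α (toBot T) w, hw,
    show toBot S = b ≫ toBot T from Quiver.Hom.unop_inj (WithInitial.starInitial.hom_ext _ _)]
  exact (ConcreteCategory.congr_hom (Y.map_comp b (toBot T)) s).symm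

/-- The part of a map. -/
abbrev αp : FibDesc.toAug D ⋙ Y' ⟶ FibDesc.toAug D ⋙ Y := Functor.whiskerLeft (FibDesc.toAug D) α

include hα in
lemma hαp (i : Dᵒᵖ) : IsOpenEmbedding ((αp α).app i) := hα _

include hbot in
lemma hcartp {S T : Dᵒᵖ} (b : S ⟶ T) (s : (FibDesc.toAug D ⋙ Y).obj S)
    (h : (FibDesc.toAug D ⋙ Y).map b s ∈ Set.range ((αp α).app T)) : s ∈ Set.range ((αp α).app S) :=
  hcart α hbot ((FibDesc.toAug D).map b) s h

/-- The open part of the augmented total category. -/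
abbrev Jf : ∫ᶜ (FibDesc.topAug Y') ⥤ ∫ᶜ (FibDesc.topAug Y) := TopFam.J α hα
/-- Its right adjoint. -/
abbrev Kf : ∫ᶜ (FibDesc.topAug Y) ⥤ ∫ᶜ (FibDesc.topAug Y') := TopFam.K α
/-- The open part of the total category of the family. -/
abbrev Jp : ∫ᶜ (FibDesc.part (FibDesc.topAug Y')) ⥤ ∫ᶜ (FibDesc.part (FibDesc.topAug Y)) :=
  TopFam.J (αp α) (hαp α hα)
/-- The open part of the base. -/
abbrev jb : (FibDesc.topAug Y').obj ⟨op (FibDesc.bot D)⟩ ⥤ (FibDesc.topAug Y).obj ⟨op (FibDesc.bot D)⟩ :=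
  (hα (FibDesc.bot D)).functor
/-- Its right adjoint. -/
abbrev kb : (FibDesc.topAug Y).obj ⟨op (FibDesc.bot D)⟩ ⥤ (FibDesc.topAug Y').obj ⟨op (FibDesc.bot D)⟩ :=
  Opens.map (α.app (FibDesc.bot D))

/-- The base topology. -/
abbrev TB (W : (WithInitial D)ᵒᵖ ⥤ TopCat.{u}) := FibDesc.topAugTop W (FibDesc.bot D)
/-- The total topology. -/
abbrev TF (W : (WithInitial D)ᵒᵖ ⥤ TopCat.{u}) := FibDesc.totAug (FibDesc.topAug W) (FibDesc.topAugTop W)
/-- The total topology of the family. -/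
abbrev TP (W : (WithInitial D)ᵒᵖ ⥤ TopCat.{u}) := FibDesc.totPart (FibDesc.topAug W) (FibDesc.topAugTop W)

instance (W : (WithInitial D)ᵒᵖ ⥤ TopCat.{u}) : (FibDesc.eps (FibDesc.topAug W)).IsContinuous (TB W) (TF W) :=
  isContinuous_ι (TopSplit.isPreFibSite W) (FibDesc.bot D)
instance (W : (WithInitial D)ᵒᵖ ⥤ TopCat.{u}) : (FibDesc.incl (FibDesc.topAug W)).IsContinuous (TP W) (TF W) :=
  TopSplit.isContinuous_baseChange W (FibDesc.toAug D)
instance (W : (WithInitial D)ᵒᵖ ⥤ TopCat.{u}) : (FibDesc.incl (FibDesc.topAug W)).IsCocontinuous (TP W) (TF W) :=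
  TopSplit.isCocontinuous_baseChange W (FibDesc.toAug D)

/-- The inverse image of the augmentation. -/
abbrev θ (W : (WithInitial D)ᵒᵖ ⥤ TopCat.{u}) :=
  FibDesc.pull (FibDesc.topAug W) (FibDesc.topAugTop W) AddCommGrpCat.{u}

instance lex_θ (W : (WithInitial D)ᵒᵖ ⥤ TopCat.{u}) : PreservesFiniteLimits (θ W) :=
  haveI := TopSplit.flat_eps W
  haveI := SplitDescent.lex_pullback (TB W) (TF W) (FibDesc.eps (FibDesc.topAug W))
  haveI := SplitDescent.lex_of_adj ((FibDesc.incl (FibDesc.topAug W)).sheafAdjunctionContinuous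
    AddCommGrpCat.{u} (TP W) (TF W))
  comp_preservesFiniteLimits _ _

/-- An open part of the base. -/
abbrev Inb (U : (FibDesc.topAug Y).obj ⟨op (FibDesc.bot D)⟩) : Prop :=
  ∀ x ∈ (show Opens (Y.obj (FibDesc.bot D)) from U), x ∈ Set.range (α.app (FibDesc.bot D))

include hα in
lemma hinb (U : (FibDesc.topAug Y).obj ⟨op (FibDesc.bot D)⟩) (hU : Inb α U) :
    ∃ W, Nonempty (U ≅ (jb α hα).obj W) := by
  refine ⟨(kb α).obj U, ⟨eqToIso (Opens.ext ?_)⟩⟩
  exact (Set.image_preimage_eq_of_subset hU).symm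

lemma houtb (U : (FibDesc.topAug Y).obj ⟨op (FibDesc.bot D)⟩) (W : (FibDesc.topAug Y').obj ⟨op (FibDesc.bot D)⟩)
    (f : U ⟶ (jb α hα).obj W) : Inb α U := fun x hx => by
  obtain ⟨w, -, e⟩ := leOfHom (X := Opens (Y.obj (FibDesc.bot D))) f hx
  exact ⟨w, e⟩

lemma full_jb : (jb α hα).Full :=
  haveI : Mono (α.app (FibDesc.bot D)) := (TopCat.mono_iff_injective _).2 (hα _).injective
  IsOpenMap.functorFullOfMono _

lemma faithful_jb : (jb α hα).Faithful := IsOpenMap.functor_faithful _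

lemma isContinuous_jb : (jb α hα).IsContinuous (TB Y') (TB Y) := (hα _).functor_isContinuous

lemma isCocontinuous_jb : (jb α hα).IsCocontinuous (TB Y') (TB Y) where
  cover_lift {U T} hT := fun x hx => by
    obtain ⟨V, f, hf, hxV⟩ := hT (α.app (FibDesc.bot D) x) ⟨x, hx, rfl⟩
    let V' : Opens (Y'.obj (FibDesc.bot D)) :=
      (Opens.map (α.app (FibDesc.bot D))).obj V ⊓ (show Opens (Y'.obj (FibDesc.bot D)) from U)
    refine ⟨V', homOfLE inf_le_right, ?_, hxV, hx⟩
    let g : (jb α hα).obj V' ⟶ V :=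
      homOfLE (X := Opens (Y.obj (FibDesc.bot D))) (by rintro _ ⟨y, hy, rfl⟩; exact hy.1)
    exact T.downward_closed hf g

section

variable [(jb α hα).IsContinuous (TB Y') (TB Y)] [(Jp α hα).IsContinuous (TP Y') (TP Y)]
  [(Jf α hα).IsContinuous (TF Y') (TF Y)] [(kb α).IsContinuous (TB Y) (TB Y')]
  [(Kf α).IsContinuous (TF Y) (TF Y')]

/-- Restriction to the open part of the base. -/
abbrev rb := SubSite.r (TB Y) (TB Y') (jb α hα)
/-- Extension by zero from the open part of the base. -/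
abbrev eb := SubSite.e (TB Y) (TB Y') (jb α hα)
/-- Restriction to the open part of the family. -/
abbrev rp := SubSite.r (TP Y) (TP Y') (Jp α hα)
/-- Extension by zero from the open part of the family. -/
abbrev ep := SubSite.e (TP Y) (TP Y') (Jp α hα)

/-- Extensions from the base commute with restriction. -/
def extendR : (FibDesc.eps (FibDesc.topAug Y)).sheafPullback AddCommGrpCat.{u} (TB Y) (TF Y) ⋙
      SubSite.r (TF Y) (TF Y') (Jf α hα) ≅
    rb α hα ⋙ (FibDesc.eps (FibDesc.topAug Y')).sheafPullback AddCommGrpCat.{u} (TB Y') (TF Y') :=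
  haveI := Functor.isContinuous_comp (FibDesc.eps (FibDesc.topAug Y)) (Kf α) (TB Y) (TF Y) (TF Y')
  Adjunction.leftAdjointUniq
    (((FibDesc.eps (FibDesc.topAug Y)).sheafAdjunctionContinuous AddCommGrpCat.{u} (TB Y) (TF Y)).comp
      (SubSite.pushAdj (TF Y) (TF Y') (Jf α hα) (Kf α) (TopFam.adjJK α hα)))
    (((SubSite.pushAdj (TB Y) (TB Y') (jb α hα) (kb α)
        (IsOpenMap.adjunction (hα (FibDesc.bot D)).isOpenMap)).comp
      ((FibDesc.eps (FibDesc.topAug Y')).sheafAdjunctionContinuous AddCommGrpCat.{u} (TB Y') (TF Y'))).ofNatIsoRight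
      (Functor.sheafPushforwardContinuousComp'
          (show kb α ⋙ FibDesc.eps (FibDesc.topAug Y') ≅ FibDesc.eps (FibDesc.topAug Y) ⋙ Kf α from
            (TopFam.ιK α (FibDesc.bot D)).symm) AddCommGrpCat.{u} (TB Y) (TB Y') (TF Y') ≪≫
        (Functor.sheafPushforwardContinuousComp (FibDesc.eps (FibDesc.topAug Y))
          (Kf α) AddCommGrpCat.{u} (TB Y) (TF Y) (TF Y')).symm))

/-- The two inclusions of the open part of the family commute. -/
def inclIso : Jp α hα ⋙ FibDesc.incl (FibDesc.topAug Y) ≅ FibDesc.incl (FibDesc.topAug Y') ⋙ Jf α hα :=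
  NatIso.ofComponents (fun X => Iso.refl _) (fun g => TopSplit.hom_ext Y _ _ (by
    show (FibDesc.toAug D).map g.base ≫ 𝟙 _ = 𝟙 _ ≫ (FibDesc.toAug D).map g.base
    simp))

/-- The inverse image commutes with restriction. -/
def cIso : θ Y ⋙ rp α hα ≅ rb α hα ⋙ θ Y' :=
  haveI := Functor.isContinuous_comp (Jp α hα) (FibDesc.incl (FibDesc.topAug Y)) (TP Y') (TP Y) (TF Y)
  haveI := Functor.isContinuous_comp (FibDesc.incl (FibDesc.topAug Y')) (Jf α hα) (TP Y') (TF Y') (TF Y)
  Functor.associator _ _ _ ≪≫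
    Functor.isoWhiskerLeft _
      (Functor.sheafPushforwardContinuousComp' (inclIso α hα) AddCommGrpCat.{u} (TP Y') (TP Y) (TF Y) ≪≫
        (Functor.sheafPushforwardContinuousComp (FibDesc.incl (FibDesc.topAug Y'))
          (Jf α hα) AddCommGrpCat.{u} (TP Y') (TF Y') (TF Y)).symm) ≪≫
    (Functor.associator _ _ _).symm ≪≫ Functor.isoWhiskerRight (extendR α hα) _ ≪≫ Functor.associator _ _ _

/-- Extensions from the open part of the base are extended from the open part. -/
def extendE : eb α hα ⋙ (FibDesc.eps (FibDesc.topAug Y)).sheafPullback AddCommGrpCat.{u} (TB Y) (TF Y) ≅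
    (FibDesc.eps (FibDesc.topAug Y')).sheafPullback AddCommGrpCat.{u} (TB Y') (TF Y') ⋙
      SubSite.e (TF Y) (TF Y') (Jf α hα) :=
  haveI := Functor.isContinuous_comp (jb α hα) (FibDesc.eps (FibDesc.topAug Y)) (TB Y') (TB Y) (TF Y)
  Adjunction.leftAdjointUniq
    ((SubSite.adj (TB Y) (TB Y') (jb α hα)).comp
      ((FibDesc.eps (FibDesc.topAug Y)).sheafAdjunctionContinuous AddCommGrpCat.{u} (TB Y) (TF Y)))
    ((((FibDesc.eps (FibDesc.topAug Y')).sheafAdjunctionContinuous AddCommGrpCat.{u} (TB Y') (TF Y')).comp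
      (SubSite.adj (TF Y) (TF Y') (Jf α hα))).ofNatIsoRight
      (Functor.sheafPushforwardContinuousComp'
          (show FibDesc.eps (FibDesc.topAug Y') ⋙ Jf α hα ≅ jb α hα ⋙ FibDesc.eps (FibDesc.topAug Y) from
            TopFam.ιJ α hα (FibDesc.bot D)) AddCommGrpCat.{u} (TB Y') (TF Y') (TF Y) ≪≫
        (Functor.sheafPushforwardContinuousComp (jb α hα)
          (FibDesc.eps (FibDesc.topAug Y)) AddCommGrpCat.{u} (TB Y') (TB Y) (TF Y)).symm))

include hbot in
set_option maxHeartbeats 2000000 in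
/-- Inverse images of extensions are supported on the open part of the family. -/
lemma supp_θ_e (M : Sheaf (TB Y') AddCommGrpCat.{u}) :
    SubSite.Supp (TopFam.In (αp α)) ((θ Y).obj ((eb α hα).obj M)) := by
  haveI : (Jf α hα).Full := TopFam.full_J α hα
  haveI : (Jf α hα).Faithful := inferInstanceAs (TopFam.J α hα).Faithful
  haveI : (Jf α hα).IsCocontinuous (TF Y') (TF Y) := TopFam.isCocontinuous_J α hα
  have h : SubSite.Supp (TopFam.In α)
      (((FibDesc.eps (FibDesc.topAug Y)).sheafPullback AddCommGrpCat.{u} (TB Y) (TF Y)).obj ((eb α hα).obj M)) :=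
    SubSite.supp_of_iso ((extendE α hα).app M).symm (SubSite.supp_e (TF Y) (TF Y') (Jf α hα) (TopFam.In α)
      (TopFam.hout α hα (hcart α hbot)) _)
  intro X t
  obtain ⟨S, hS, hS'⟩ := h ((FibDesc.incl (FibDesc.topAug Y)).obj X) t
  exact ⟨S.functorPullback (FibDesc.incl (FibDesc.topAug Y)),
    Functor.cover_lift (FibDesc.incl (FibDesc.topAug Y)) (TP Y) (TF Y) hS, fun W f hf => hS' _ hf⟩

end

attribute [local instance] HasDerivedCategory.standard

/-- A sheaf map on the base which is invertible on an open covering is invertible. -/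
lemma isIso_of_cover {ι : Type u} {Y₁ : ι → (WithInitial D)ᵒᵖ ⥤ TopCat.{u}} (a : ∀ i, Y₁ i ⟶ Y)
    (ha : ∀ i x, IsOpenEmbedding ((a i).app x))
    (hcov : ∀ s : Y.obj (FibDesc.bot D), ∃ i, s ∈ Set.range ((a i).app (FibDesc.bot D)))
    [∀ i, (jb (a i) (ha i)).IsContinuous (TB (Y₁ i)) (TB Y)]
    {M N : Sheaf (TB Y) AddCommGrpCat.{u}} (f : M ⟶ N) (h : ∀ i, IsIso ((rb (a i) (ha i)).map f)) : IsIso f := by
  have hloc : ∀ i V, Inb (a i) V → Function.Bijective (f.hom.app (op V)) := by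
    intro i V hV
    obtain ⟨W, ⟨e⟩⟩ := hinb (a i) (ha i) V hV
    haveI := h i
    haveI : IsIso (f.hom.app (op ((jb (a i) (ha i)).obj W))) :=
      inferInstanceAs (IsIso (((sheafToPresheaf (TB (Y₁ i)) AddCommGrpCat.{u}).map
        ((rb (a i) (ha i)).map f)).app (op W)))
    haveI : IsIso (f.hom.app (op V)) := (NatTrans.isIso_app_iff_of_iso f.hom e.op).1 inferInstance
    exact ConcreteCategory.bijective_of_isIso _
  have hcover : ∀ U : Opens (Y.obj (FibDesc.bot D)), ∀ x ∈ U, ∃ (i : ι) (V : Opens (Y.obj (FibDesc.bot D))),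
      V ≤ U ∧ x ∈ V ∧ Inb (a i) V := fun U x hx => by
    obtain ⟨i, hi⟩ := hcov x
    exact ⟨i, U ⊓ ⟨_, (ha i (FibDesc.bot D)).isOpen_range⟩, inf_le_left, ⟨hx, hi⟩, fun y hy => hy.2⟩
  haveI : Presheaf.IsLocallyInjective (TB Y) f.hom := ⟨fun {X} p q hpq x hx => by
    obtain ⟨i, V, hV, hxV, hin⟩ := hcover X.unop x hx
    refine ⟨V, homOfLE (X := Opens (Y.obj (FibDesc.bot D))) hV, (hloc i V hin).1 ?_, hxV⟩
    refine (NatTrans.naturality_apply f.hom (homOfLE (X := Opens (Y.obj (FibDesc.bot D))) hV).op p).trans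
      (Eq.trans ?_ (NatTrans.naturality_apply f.hom (homOfLE (X := Opens (Y.obj (FibDesc.bot D))) hV).op q).symm)
    exact congrArg _ hpq⟩
  haveI : Presheaf.IsLocallySurjective (TB Y) f.hom := ⟨fun {X} t x hx => by
    obtain ⟨i, V, hV, hxV, hin⟩ := hcover X x hx
    exact ⟨V, homOfLE (X := Opens (Y.obj (FibDesc.bot D))) hV, (hloc i V hin).2 _, hxV⟩⟩
  exact (Sheaf.isLocallyBijective_iff_isIso (J := TB Y) (A := AddCommGrpCat.{u}) f).1 ⟨‹_›, ‹_›⟩

section piece

variable [(jb α hα).IsContinuous (TB Y') (TB Y)]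

lemma lex_rb : PreservesFiniteLimits (rb α hα) :=
  SplitDescent.lex_of_adj (SubSite.adj (TB Y) (TB Y') (jb α hα))

lemma rex_rb : PreservesFiniteColimits (rb α hα) :=
  haveI := isCocontinuous_jb α hα
  SplitDescent.rex_of_adj ((jb α hα).sheafAdjunctionCocontinuous AddCommGrpCat.{u} (TB Y') (TB Y))

lemma lex_eb : PreservesFiniteLimits (eb α hα) :=
  haveI := full_jb α hα
  haveI := faithful_jb α hα
  haveI := isCocontinuous_jb α hα
  SubSite.lex_e (TB Y) (TB Y') (jb α hα) (Inb α) (hinb α hα) (houtb α hα)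

lemma rex_eb : PreservesFiniteColimits (eb α hα) :=
  SplitDescent.rex_of_adj (SubSite.adj (TB Y) (TB Y') (jb α hα))

instance additive_rb : (rb α hα).Additive where

instance additive_eb : (eb α hα).Additive :=
  (SubSite.adj (TB Y) (TB Y') (jb α hα)).left_adjoint_additive

lemma isIso_rb_counit (N : Sheaf (TB Y) AddCommGrpCat.{u}) :
    IsIso ((rb α hα).map ((SubSite.adj (TB Y) (TB Y') (jb α hα)).counit.app N)) :=
  haveI := full_jb α hα
  haveI := faithful_jb α hα
  haveI := isCocontinuous_jb α hα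
  SubSite.isIso_r_counit (TB Y) (TB Y') (jb α hα) N

variable [PreservesFiniteLimits (rb α hα)] [PreservesFiniteColimits (rb α hα)] [PreservesFiniteLimits (eb α hα)]
  [PreservesFiniteColimits (eb α hα)]

include hbot in
set_option maxHeartbeats 4000000 in
/-- Descent on the open part gives full faithfulness out of extensions from it. -/
theorem bijective_piece (h : FibDesc.IsCohDescentTop Y') (Z K : DerivedCategory.Plus (Sheaf (TB Y) AddCommGrpCat.{u})) :
    Function.Bijective ((θ Y).mapDerivedCategory.map :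
      ((eb α hα).mapDerivedCategory.obj ((rb α hα).mapDerivedCategory.obj Z.obj) ⟶ K.obj) → _) := by
  haveI := full_jb α hα
  haveI := faithful_jb α hα
  haveI := isCocontinuous_jb α hα
  haveI : (kb α).IsContinuous (TB Y) (TB Y') :=
    inferInstanceAs ((Opens.map (α.app (FibDesc.bot D))).IsContinuous (Opens.grothendieckTopology _) (Opens.grothendieckTopology _))
  haveI : (Jp α hα).IsContinuous (TP Y') (TP Y) := TopFam.isContinuous_J (αp α) (hαp α hα)
  haveI : (Jp α hα).IsCocontinuous (TP Y') (TP Y) := TopFam.isCocontinuous_J (αp α) (hαp α hα)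
  haveI : (Jp α hα).Full := TopFam.full_J (αp α) (hαp α hα)
  haveI : (Jp α hα).Faithful := inferInstanceAs (TopFam.J (αp α) (hαp α hα)).Faithful
  haveI : (Jf α hα).IsContinuous (TF Y') (TF Y) := TopFam.isContinuous_J α hα
  haveI : (Kf α).IsContinuous (TF Y) (TF Y') := TopFam.isContinuous_K α
  haveI : PreservesFiniteLimits (rp α hα) := SplitDescent.lex_of_adj (SubSite.adj (TP Y) (TP Y') (Jp α hα))
  haveI : PreservesFiniteColimits (rp α hα) :=
    SplitDescent.rex_of_adj ((Jp α hα).sheafAdjunctionCocontinuous AddCommGrpCat.{u} (TP Y') (TP Y))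
  haveI : PreservesFiniteLimits (ep α hα) :=
    SubSite.lex_e (TP Y) (TP Y') (Jp α hα) (TopFam.In (αp α)) (TopFam.hin (αp α) (hαp α hα))
      (TopFam.hout (αp α) (hαp α hα) (hcartp α hbot))
  haveI : PreservesFiniteColimits (ep α hα) := SplitDescent.rex_of_adj (SubSite.adj (TP Y) (TP Y') (Jp α hα))
  haveI : (rp α hα).Additive := {}
  haveI : (ep α hα).Additive := (SubSite.adj (TP Y) (TP Y') (Jp α hα)).left_adjoint_additive
  haveI := SubSite.isIso_unit (TB Y) (TB Y') (jb α hα)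
  obtain ⟨_, _, _, _, _, _, hY'⟩ := h
  obtain ⟨n, hn⟩ := Z.property
  obtain ⟨m, hm⟩ := K.property
  exact DerivedLocal.bijective_of_piece (θ Y) (θ Y') (rb α hα) (eb α hα) (rp α hα) (ep α hα)
    (asIso (SubSite.adj (TB Y) (TB Y') (jb α hα)).unit).symm (SubSite.adj (TB Y) (TB Y') (jb α hα)).counit
    (isIso_rb_counit α hα)
    (fun M => SubSite.isIso_counit (TB Y) (TB Y') (jb α hα) (Inb α) (hinb α hα) (houtb α hα)
      (SubSite.supp_e (TB Y) (TB Y') (jb α hα) (Inb α) (houtb α hα) M))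
    (SubSite.adj (TP Y) (TP Y') (Jp α hα)).counit
    (fun M => SubSite.isIso_counit (TP Y) (TP Y') (Jp α hα) (TopFam.In (αp α)) (TopFam.hin (αp α) (hαp α hα))
      (TopFam.hout (αp α) (hαp α hα) (hcartp α hbot)) (supp_θ_e α hα hbot M))
    (cIso α hα) _ _
    (hY' ⟨_, n, SiteCmpLib.Devissage.isGE_map _ n (SiteCmpLib.Devissage.isGE_map _ n
        (SiteCmpLib.Devissage.isGE_map _ n hn))⟩
      ⟨_, m, SiteCmpLib.Devissage.isGE_map _ m hm⟩)

end piece

omit α hα hbot in
set_option maxHeartbeats 2000000 in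
/-- Cohomological descent is local on the base. -/
theorem isCohDescentTop_of_cover {ι : Type u} {Y₁ : ι → (WithInitial D)ᵒᵖ ⥤ TopCat.{u}} (a : ∀ i, Y₁ i ⟶ Y)
    (ha : ∀ i x, IsOpenEmbedding ((a i).app x))
    (hab : ∀ i (x : (WithInitial D)ᵒᵖ) (s : Y.obj x),
      Y.map (toBot x) s ∈ Set.range ((a i).app (FibDesc.bot D)) → s ∈ Set.range ((a i).app x))
    (hcov : ∀ s : Y.obj (FibDesc.bot D), ∃ i, s ∈ Set.range ((a i).app (FibDesc.bot D)))
    (h : ∀ i, FibDesc.IsCohDescentTop (Y₁ i)) : FibDesc.IsCohDescentTop Y := by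
  haveI : ∀ i, (jb (a i) (ha i)).IsContinuous (TB (Y₁ i)) (TB Y) := fun i => isContinuous_jb (a i) (ha i)
  haveI : ∀ i, PreservesFiniteLimits (rb (a i) (ha i)) := fun i => lex_rb (a i) (ha i)
  haveI : ∀ i, PreservesFiniteColimits (rb (a i) (ha i)) := fun i => rex_rb (a i) (ha i)
  haveI : ∀ i, PreservesFiniteLimits (eb (a i) (ha i)) := fun i => lex_eb (a i) (ha i)
  haveI : ∀ i, PreservesFiniteColimits (eb (a i) (ha i)) := fun i => rex_eb (a i) (ha i)
  refine ⟨inferInstance, inferInstance, inferInstance, inferInstance, fun _ => inferInstance, lex_θ Y, fun K L => ?_⟩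
  exact PlusLocal.bijective_of_cover (θ Y) (FibDesc.adj (FibDesc.topAug Y) (FibDesc.topAugTop Y) AddCommGrpCat.{u})
    (fun i => rb (a i) (ha i)) (fun i => eb (a i) (ha i))
    (fun i => DerivedLocal.counitD (SubSite.adj (TB Y) (TB (Y₁ i)) (jb (a i) (ha i))).counit)
    (fun i X => DerivedLocal.isIso_map_counitD _ (rb (a i) (ha i)) (isIso_rb_counit (a i) (ha i)) X)
    (fun f hf => isIso_of_cover a ha hcov f hf)
    (fun i Z K => bijective_piece (a i) (ha i) (hab i) (h i) Z K) K L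

end Groth.Agent.FibSiteLib.TopLocal
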