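import Groth.Agent.FibSiteLib.TopSplit

/-!
# The augmented Čech nerve of a map with a section is split
-/

set_option autoImplicit false
set_option backward.isDefEq.respectTransparency false
set_option backward.isDefEq.respectTransparency.types false

universe u

open CategoryTheory CategoryTheory.Limits Opposite WithInitial

noncomputable section

namespace Groth.Agent.FibSiteLib.CechSection

/-- Adding a new first vertex to a monotone map. -/
def ext {a b : ℕ} (g : Fin (a + 1) →o Fin (b + 1)) : Fin (a + 2) →o Fin (b + 2) where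
  toFun := Fin.cons 0 fun i => (g i).succ
  monotone' := fun x y hxy => by
    induction x using Fin.cases with
    | zero => simp
    | succ x =>
      induction y using Fin.cases with
      | zero => simp at hxy
      | succ y =>
        simp only [Fin.cons_succ, Fin.succ_le_succ_iff]
        exact g.monotone (Fin.succ_le_succ_iff.1 hxy)

@[simp] lemma ext_zero {a b : ℕ} (g : Fin (a + 1) →o Fin (b + 1)) : ext g 0 = 0 := rfl

@[simp] lemma ext_succ {a b : ℕ} (g : Fin (a + 1) →o Fin (b + 1)) (i : Fin (a + 1)) :
    ext g i.succ = (g i).succ := by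
  simp [ext]

/-- Adding a new first vertex. -/
def shObj : WithInitial SimplexCategory → SimplexCategory
  | .of n => SimplexCategory.mk (n.len + 1)
  | .star => SimplexCategory.mk 0

/-- Adding a new first vertex, on morphisms. -/
def shMap : ∀ {x y : WithInitial SimplexCategory}, (x ⟶ y) → (shObj x ⟶ shObj y)
  | .of a, .of b, g => SimplexCategory.Hom.mk (ext (down g).toOrderHom)
  | .star, .of b, _ => SimplexCategory.Hom.mk ⟨fun _ => 0, fun _ _ _ => le_rfl⟩
  | .star, .star, _ => 𝟙 _
  | .of a, .star, g => (g : PEmpty).elim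

lemma shMap_id (x : WithInitial SimplexCategory) : shMap (𝟙 x) = 𝟙 (shObj x) := by
  cases x with
  | star => rfl
  | of a =>
    apply SimplexCategory.Hom.ext
    ext i : 2
    show ext (down (𝟙 (WithInitial.of a))).toOrderHom i = i
    induction i using Fin.cases <;> simp

lemma shMap_comp {x y z : WithInitial SimplexCategory} (f : x ⟶ y) (g : y ⟶ z) :
    shMap (f ≫ g) = shMap f ≫ shMap g := by
  match x, y, z, f, g with
  | .star, .star, .star, f, g => rfl
  | .star, .star, .of c, f, g => apply SimplexCategory.Hom.ext; ext i : 2; rfl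
  | .star, .of b, .of c, f, g =>
    apply SimplexCategory.Hom.ext
    ext i : 2
    show (0 : Fin (c.len + 2)) = ext (down g).toOrderHom 0
    simp
  | .of a, .of b, .of c, f, g =>
    apply SimplexCategory.Hom.ext
    ext i : 2
    show ext (down (f ≫ g)).toOrderHom i = ext (down g).toOrderHom (ext (down f).toOrderHom i)
    induction i using Fin.cases with
    | zero => simp
    | succ i => simp
  | .of a, .star, _, f, _ => exact (f : PEmpty).elim
  | _, .of b, .star, _, g => exact (g : PEmpty).elim

/-- The shift of the augmented simplex category. -/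
def sh : WithInitial SimplexCategory ⥤ SimplexCategory where
  obj := shObj
  map := shMap
  map_id := shMap_id
  map_comp := shMap_comp

/-- The inclusion of the old vertices. -/
def faceApp : ∀ x : WithInitial SimplexCategory, x ⟶ WithInitial.incl.obj (shObj x)
  | .of n => WithInitial.incl.map (SimplexCategory.Hom.mk ⟨Fin.succ, Fin.strictMono_succ.monotone⟩ :
      n ⟶ SimplexCategory.mk (n.len + 1))
  | .star => starInitial.to _

/-- The inclusion of the old vertices, naturally. -/
def face : 𝟭 (WithInitial SimplexCategory) ⟶ sh ⋙ WithInitial.incl where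
  app := faceApp
  naturality x y g := by
    match x, y, g with
    | .star, _, g => exact starInitial.hom_ext _ _
    | .of a, .star, g => exact (g : PEmpty).elim
    | .of a, .of b, g =>
      apply SimplexCategory.Hom.ext
      ext i : 2
      show ((down g).toOrderHom i).succ = ext (down g).toOrderHom i.succ
      simp

variable {X S : TopCat.{u}} (f : X ⟶ S) (σ : S ⟶ X) (hσ : σ ≫ f = 𝟙 S)

/-- The augmented Čech nerve. -/
abbrev Y : (WithInitial SimplexCategory)ᵒᵖ ⥤ TopCat.{u} := FibDesc.cechAug f

/-- A map into a term of the Čech nerve. -/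
abbrev L {T : TopCat.{u}} {n : ℕ} (e : T ⟶ S) (c : Fin (n + 1) → (T ⟶ X)) (hc : ∀ i, c i ≫ f = e) :
    T ⟶ widePullback.{0} S (fun _ : Fin (n + 1) => X) fun _ => f :=
  WidePullback.lift e c hc

omit σ in
lemma L_ext {T : TopCat.{u}} {n : ℕ} {e e' : T ⟶ S} {c c' : Fin (n + 1) → (T ⟶ X)} {hc hc'} (he : e = e')
    (h : ∀ i, c i = c' i) : L f e c hc = L f e' c' hc' := by
  obtain rfl : c = c' := funext h
  subst he
  rfl

lemma L_reindex {T : TopCat.{u}} {n m : ℕ} (e : T ⟶ S) (c : Fin (n + 1) → (T ⟶ X)) (hc : ∀ i, c i ≫ f = e)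
    (q : Fin (m + 1) → Fin (n + 1))
    (h' : ∀ i, WidePullback.π (fun _ : Fin (n + 1) => f) (q i) ≫ f = WidePullback.base _) :
    L f e c hc ≫ L f (WidePullback.base _) (fun i => WidePullback.π _ (q i)) h' =
      L f e (fun i => c (q i)) (fun i => hc (q i)) := by
  refine WidePullback.hom_ext _ _ _ (fun i => ?_) ?_ <;> simp

lemma comp_L {T T' : TopCat.{u}} {n : ℕ} (k : T' ⟶ T) (e : T ⟶ S) (c : Fin (n + 1) → (T ⟶ X))
    (hc : ∀ i, c i ≫ f = e) :
    k ≫ L f e c hc = L f (k ≫ e) (fun i => k ≫ c i) (fun i => by rw [Category.assoc, hc]) := by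
  refine WidePullback.hom_ext _ _ _ (fun i => ?_) ?_ <;> simp

lemma L_base {T : TopCat.{u}} {n : ℕ} (e : T ⟶ S) (c : Fin (n + 1) → (T ⟶ X)) (hc : ∀ i, c i ≫ f = e) :
    L f e c hc ≫ WidePullback.base _ = e :=
  WidePullback.lift_base _ _ _ _

include hσ in
lemma lift_cond {n : ℕ} (j : Fin (n + 2)) :
    Fin.cons (α := fun _ => (widePullback.{0} S (fun _ : Fin (n + 1) => X) fun _ => f) ⟶ X)
      (WidePullback.base _ ≫ σ) (fun i => WidePullback.π _ i) j ≫ f = WidePullback.base _ := by
  induction j using Fin.cases with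
  | zero => simp [hσ]
  | succ j => simp

/-- The extra degeneracy. -/
def secApp : ∀ x : (WithInitial SimplexCategory)ᵒᵖ, (Y f).obj x ⟶ (Y f).obj ((sh ⋙ WithInitial.incl).op.obj x)
  | op (.of n) => WidePullback.lift
      (objs := fun _ : Fin (n.len + 2) => X) (arrows := fun _ => f)
      (WidePullback.base (objs := fun _ : Fin (n.len + 1) => X) (fun _ => f))
      (Fin.cons (WidePullback.base _ ≫ σ) fun i => WidePullback.π _ i) (lift_cond f σ hσ)
  | op .star => WidePullback.lift (objs := fun _ : Fin 1 => X) (arrows := fun _ => f)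
      (𝟙 S) (fun _ => σ) (fun _ => hσ)

lemma secApp_natural ⦃R T : (WithInitial SimplexCategory)ᵒᵖ⦄ (b : R ⟶ T) :
    secApp f σ hσ R ≫ (Y f).map ((sh ⋙ WithInitial.incl).op.map b) = (Y f).map b ≫ secApp f σ hσ T := by
  obtain ⟨x⟩ := R
  obtain ⟨y⟩ := T
  obtain ⟨g, rfl⟩ : ∃ g : y ⟶ x, g.op = b := ⟨b.unop, rfl⟩
  match y, x, g with
  | .star, .star, g =>
    rw [show g = 𝟙 WithInitial.star from starInitial.hom_ext _ _]
    erw [CategoryTheory.Functor.map_id, CategoryTheory.Functor.map_id]
    exact (Category.comp_id _).trans (Category.id_comp _).symm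
  | .of a, .star, g => exact (g : PEmpty).elim
  | .star, .of b, g =>
    refine (L_reindex f _ _ (lift_cond f σ hσ) (fun _ => 0) ?_).trans ?_
    refine Eq.trans ?_ (comp_L f _ (𝟙 S) (fun _ : Fin 1 => σ) (fun _ => hσ)).symm
    exact L_ext f (Category.comp_id _).symm (fun i => rfl)
  | .of a, .of b, g =>
    refine (L_reindex f _ _ (lift_cond f σ hσ) (ext (down g).toOrderHom) ?_).trans ?_
    refine Eq.trans ?_ (comp_L f _ _ _ (lift_cond (n := a.len) f σ hσ)).symm
    refine L_ext f ?_ (fun i => ?_)
    · exact (L_base f _ _ _).symm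
    · induction i using Fin.cases with
      | zero =>
        exact (congrArg (fun z => z ≫ σ) (L_base f _ _ _).symm).trans (Category.assoc _ _ _)
      | succ i =>
        refine ((congrArg _ (ext_succ _ i)).trans (Fin.cons_succ _ _ _)).trans ?_
        refine Eq.trans ?_ (congrArg ((Y f).map g.op ≫ ·) (Fin.cons_succ (α := fun _ => (_ : TopCat.{u}) ⟶ X) _ _ i).symm)
        exact (WidePullback.lift_π (fun _ : Fin (a.len + 1) => f) (WidePullback.base (fun _ : Fin (b.len + 1) => f))
          (fun j => WidePullback.π (fun _ : Fin (b.len + 1) => f) ((down g).toOrderHom j)) (fun j => by simp) i).symm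

lemma secApp_face (x : (WithInitial SimplexCategory)ᵒᵖ) :
    secApp f σ hσ x ≫ (Y f).map (face.app x.unop).op = 𝟙 _ := by
  obtain ⟨x⟩ := x
  match x with
  | .star => exact L_base f _ _ _
  | .of n =>
    refine (L_reindex f _ _ (lift_cond f σ hσ) Fin.succ ?_).trans ?_
    refine WidePullback.hom_ext (fun _ : Fin (n.len + 1) => f) _ _ (fun i => ?_) ?_
    · exact (WidePullback.lift_π _ _ _ _ _).trans ((Fin.cons_succ _ _ _).trans (Category.id_comp _).symm)
    · exact (WidePullback.lift_base _ _ _ _).trans (Category.id_comp _).symm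

include σ hσ in
/-- A map with a section is of cohomological descent. -/
theorem isCohDescentMap_of_section : FibDesc.IsCohDescentMap f :=
  TopSplit.isCohDescentTop (Y f) sh face (secApp f σ hσ) (secApp_natural f σ hσ) (secApp_face f σ hσ)

end Groth.Agent.FibSiteLib.CechSection
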