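import Groth.Agent.FibSiteLib.DerivedRetract
import Mathlib.CategoryTheory.Sites.Abelian
import Mathlib.CategoryTheory.Sites.Pullback
import Mathlib.CategoryTheory.Sites.CoverLifting
import Mathlib.CategoryTheory.Sites.Continuous
import Mathlib.CategoryTheory.Adjunction.Triple
import Mathlib.CategoryTheory.Limits.Shapes.Terminal
import Mathlib.Algebra.Category.Grp.Limits
import Mathlib.Algebra.Category.Grp.Colimits
import Mathlib.Algebra.Category.Grp.FilteredColimits
import Mathlib.Algebra.Category.Grp.AB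

/-!
# Cohomological descent for split augmentations of sites

Four sites: a base `B ⥤ C` (the augmented total site) `← C₀` (the total site of the family), and an auxiliary site
`C'` (the shifted family) with `P : C' ⥤ C₀`, `Φ : C' ⥤ C` and a section `Q` of `Φ`.
-/

set_option autoImplicit false
set_option backward.isDefEq.respectTransparency false
set_option backward.isDefEq.respectTransparency.types false

universe w₁ w₂ u

open CategoryTheory CategoryTheory.Limits Opposite

noncomputable section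

namespace Groth.Agent.FibSiteLib.SplitDescent


/-- Inverse images along representably flat functors are left exact. -/
lemma lex_pullback {D E : Type u} [SmallCategory D] [SmallCategory E] (K : GrothendieckTopology D)
    (L : GrothendieckTopology E) (G : D ⥤ E) [G.IsContinuous K L] [RepresentablyFlat G] :
    PreservesFiniteLimits (G.sheafPullback AddCommGrpCat.{u} K L) :=
  Functor.sheafPullbackConstruction.preservesFiniteLimits G AddCommGrpCat.{u} K L

variable {B C₀ C C' : Type u} [SmallCategory B] [SmallCategory C₀] [SmallCategory C] [SmallCategory C']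
  (JB : GrothendieckTopology B) (J₀ : GrothendieckTopology C₀) (J : GrothendieckTopology C)
  (J' : GrothendieckTopology C')
  (e : B ⥤ C) (j : C₀ ⥤ C) (P : C' ⥤ C₀) (Φ : C' ⥤ C) (Q : C ⥤ C')
  [e.IsContinuous JB J] [e.IsCocontinuous JB J] [e.Full] [e.Faithful] [RepresentablyFlat e]
  [j.IsContinuous J₀ J] [j.IsCocontinuous J₀ J] [P.IsContinuous J' J₀] [P.IsCocontinuous J' J₀]
  [Φ.IsContinuous J' J] [RepresentablyFlat Φ]
  (σ : Q ⋙ Φ ≅ 𝟭 C) (η : Q ⋙ P ⋙ j ⟶ 𝟭 C) (ζ : j ⋙ Q ⋙ P ⟶ 𝟭 C₀)

/-- The extension from the base. -/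
abbrev eL : Sheaf JB AddCommGrpCat.{u} ⥤ Sheaf J AddCommGrpCat.{u} := e.sheafPullback AddCommGrpCat.{u} JB J

/-- The restriction to the family. -/
abbrev jR : Sheaf J AddCommGrpCat.{u} ⥤ Sheaf J₀ AddCommGrpCat.{u} := j.sheafPushforwardContinuous AddCommGrpCat.{u} J₀ J

/-- The décalage, with values on the augmented site. -/
abbrev decP : Sheaf J₀ AddCommGrpCat.{u} ⥤ Sheaf J AddCommGrpCat.{u} :=
  P.sheafPushforwardContinuous AddCommGrpCat.{u} J' J₀ ⋙ Φ.sheafPullback AddCommGrpCat.{u} J' J

/-- The unit of the inverse image along `Φ` on sections. -/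
abbrev unitΦ (M : Sheaf J' AddCommGrpCat.{u}) : M.obj ⟶ Φ.op ⋙ ((Φ.sheafPullback AddCommGrpCat.{u} J' J).obj M).obj :=
  ((Φ.sheafAdjunctionContinuous AddCommGrpCat.{u} J' J).unit.app M).hom

variable {JB J₀ J J'}

omit [SmallCategory B] [SmallCategory C₀] [SmallCategory C'] in
/-- Three commutative squares in a row. -/
lemma chain3 {D : Type*} [Category D] {a₀ a₁ a₂ a₃ b₀ b₁ b₂ b₃ : D} {p : a₀ ⟶ a₁} {q : a₁ ⟶ a₂} {r : a₂ ⟶ a₃}
    {p' : b₀ ⟶ b₁} {q' : b₁ ⟶ b₂} {r' : b₂ ⟶ b₃} {f₀ : a₀ ⟶ b₀} {f₁ : a₁ ⟶ b₁} {f₂ : a₂ ⟶ b₂} {f₃ : a₃ ⟶ b₃}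
    (h₁ : f₀ ≫ p' = p ≫ f₁) (h₂ : f₁ ≫ q' = q ≫ f₂) (h₃ : f₂ ≫ r' = r ≫ f₃) :
    f₀ ≫ (p' ≫ q' ≫ r') = (p ≫ q ≫ r) ≫ f₃ := by
  rw [← Category.assoc, h₁, Category.assoc, ← Category.assoc f₁, h₂, Category.assoc, h₃]
  simp only [Category.assoc]

section

variable {D E : Type*} [Category D] [Category E] {L : D ⥤ E} {R : E ⥤ D}

omit [SmallCategory B] in
/-- A left adjoint is right exact. -/
lemma rex_of_adj (adj : L ⊣ R) : PreservesFiniteColimits L :=
  haveI : PreservesColimitsOfSize.{0, 0} L := adj.leftAdjoint_preservesColimits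
  PreservesColimitsOfSize.preservesFiniteColimits _

omit [SmallCategory B] in
/-- A right adjoint is left exact. -/
lemma lex_of_adj (adj : L ⊣ R) : PreservesFiniteLimits R :=
  haveI : PreservesLimitsOfSize.{0, 0} R := adj.rightAdjoint_preservesLimits
  PreservesLimitsOfSize.preservesFiniteLimits _

end

/-- The comparison with the décalage. -/
def aplus : 𝟭 (Sheaf J AddCommGrpCat.{u}) ⟶ jR J₀ J j ⋙ decP J₀ J J' P Φ where
  app N := ⟨Functor.whiskerRight (NatTrans.op η) N.obj ≫
    Functor.whiskerLeft Q.op (unitΦ J J' Φ ((P.sheafPushforwardContinuous AddCommGrpCat.{u} J' J₀).obj ((jR J₀ J j).obj N))) ≫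
    Functor.whiskerRight (NatTrans.op σ.inv) ((decP J₀ J J' P Φ).obj ((jR J₀ J j).obj N)).obj⟩
  naturality N N' g := by
    apply CategoryTheory.Sheaf.hom_ext
    ext X : 2
    have h1 := g.hom.naturality (η.app X.unop).op
    have h2 := congrArg (fun q => q.hom.app (Q.op.obj X)) ((Φ.sheafAdjunctionContinuous AddCommGrpCat.{u} J' J).unit.naturality
      ((P.sheafPushforwardContinuous AddCommGrpCat.{u} J' J₀).map ((jR J₀ J j).map g)))
    have h3 := ((decP J₀ J J' P Φ).map ((jR J₀ J j).map g)).hom.naturality (σ.inv.app X.unop).op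
    exact chain3 h1.symm h2 h3.symm

/-- The comparison with the décalage on the family. -/
def aFam : 𝟭 (Sheaf J₀ AddCommGrpCat.{u}) ⟶ decP J₀ J J' P Φ ⋙ jR J₀ J j where
  app M := ⟨Functor.whiskerRight (NatTrans.op ζ) M.obj ≫
    Functor.whiskerLeft (j ⋙ Q).op (unitΦ J J' Φ ((P.sheafPushforwardContinuous AddCommGrpCat.{u} J' J₀).obj M)) ≫
    Functor.whiskerLeft j.op (Functor.whiskerRight (NatTrans.op σ.inv) ((decP J₀ J J' P Φ).obj M).obj)⟩
  naturality M M' g := by
    apply CategoryTheory.Sheaf.hom_ext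
    ext X : 2
    have h1 := g.hom.naturality (ζ.app X.unop).op
    have h2 := congrArg (fun q => q.hom.app ((j ⋙ Q).op.obj X)) ((Φ.sheafAdjunctionContinuous AddCommGrpCat.{u} J' J).unit.naturality
      ((P.sheafPushforwardContinuous AddCommGrpCat.{u} J' J₀).map g))
    have h3 := ((decP J₀ J J' P Φ).map g).hom.naturality (σ.inv.app (j.obj X.unop)).op
    exact chain3 h1.symm h2 h3.symm

lemma aFam_eq (hζ : ∀ X, j.map (ζ.app X) = η.app (j.obj X)) (N : Sheaf J AddCommGrpCat.{u}) :
    (aFam (J := J) (J' := J') j P Φ Q σ ζ).app ((jR J₀ J j).obj N) =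
      (jR J₀ J j).map ((aplus (J₀ := J₀) (J' := J') j P Φ Q σ η).app N) := by
  apply CategoryTheory.Sheaf.hom_ext
  ext X : 2
  exact congrArg (fun q : j.obj ((j ⋙ Q ⋙ P).obj X.unop) ⟶ j.obj X.unop => N.obj.map q.op ≫ _) (hζ X.unop)

section

variable [(P ⋙ j).IsContinuous J' J] [(P ⋙ j).IsCocontinuous J' J]

/-- The projection from the right Kan extension. -/
def proj (N : Sheaf J AddCommGrpCat.{u}) :
    ((P ⋙ j).sheafPushforwardCocontinuous AddCommGrpCat.{u} J' J).obj ((Φ.sheafPushforwardContinuous AddCommGrpCat.{u} J' J).obj N) ⟶ N :=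
  ⟨Functor.whiskerRight (NatTrans.op η)
      (((P ⋙ j).sheafPushforwardCocontinuous AddCommGrpCat.{u} J' J).obj ((Φ.sheafPushforwardContinuous AddCommGrpCat.{u} J' J).obj N)).obj ≫
    Functor.whiskerLeft Q.op
      (((P ⋙ j).sheafAdjunctionCocontinuous AddCommGrpCat.{u} J' J).counit.app ((Φ.sheafPushforwardContinuous AddCommGrpCat.{u} J' J).obj N)).hom ≫
    Functor.whiskerRight (NatTrans.op σ.inv) N.obj⟩

variable (hbij : ∀ (X : C') (U : B),
  Function.Bijective fun k : X ⟶ Q.obj (e.obj U) => j.map (P.map k) ≫ η.app (e.obj U))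

include hbij in
/-- Restricted to the base, the projection is invertible. -/
theorem isIso_restrict_proj (N : Sheaf J AddCommGrpCat.{u}) :
    IsIso ((e.sheafPushforwardContinuous AddCommGrpCat.{u} JB J).map (proj (J' := J') j P Φ Q σ η N)) := by
  haveI : ∀ U : Bᵒᵖ, IsIso ((proj (J' := J') j P Φ Q σ η N).hom.app (e.op.obj U)) := by
    intro U
    let K := P ⋙ j
    let G := ((Φ.sheafPushforwardContinuous AddCommGrpCat.{u} J' J).obj N).obj
    let k₀ : StructuredArrow (e.op.obj U) K.op := StructuredArrow.mk (Y := op (Q.obj (e.obj U.unop))) (η.app (e.obj U.unop)).op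
    have hinit : IsInitial k₀ := IsInitial.ofUniqueHom
      (fun k => StructuredArrow.homMk ((hbij k.right.unop U.unop).2 k.hom.unop).choose.op (by
        exact congrArg Quiver.Hom.op ((hbij k.right.unop U.unop).2 k.hom.unop).choose_spec))
      (fun k m => by
        refine StructuredArrow.ext _ _ (Quiver.Hom.unop_inj ((hbij k.right.unop U.unop).1 ?_))
        exact (congrArg Quiver.Hom.unop (StructuredArrow.w m)).trans
          ((hbij k.right.unop U.unop).2 k.hom.unop).choose_spec.symm)
    have hlim := Functor.isPointwiseRightKanExtensionRanCounit K.op G (e.op.obj U)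
    haveI : IsIso ((limit.π (StructuredArrow.proj (e.op.obj U) K.op ⋙ (𝟭 (C'ᵒᵖ ⥤ AddCommGrpCat.{u})).obj G) k₀)) :=
      isIso_π_of_isInitial hinit _
    haveI h : IsIso (((K.op.ran.obj G).map k₀.hom) ≫ (K.op.ranCounit.app G).app k₀.right) := by
      have he := IsLimit.conePointUniqueUpToIso_hom_comp hlim (limit.isLimit _) k₀
      have hc : IsIso (((Functor.RightExtension.mk (K.op.ran.obj G) (K.op.ranCounit.app G)).coneAt
          (e.op.obj U)).π.app k₀) := by
        rw [← he]
        exact @IsIso.comp_isIso _ _ _ _ _ _ _ inferInstance this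
      exact hc
    dsimp only [proj]
    simp only [NatTrans.comp_app, Functor.whiskerRight_app, Functor.whiskerLeft_app, ← Category.assoc]
    haveI : IsIso (N.obj.map ((NatTrans.op σ.inv).app (e.op.obj U))) :=
      inferInstanceAs (IsIso (N.obj.map (σ.inv.app (e.obj U.unop)).op))
    refine @IsIso.comp_isIso _ _ _ _ _ _ _ ?_ this
    rw [Functor.sheafAdjunctionCocontinuous_counit_app_hom, Functor.ranAdjunction_counit]
    exact h
  haveI : IsIso ((e.sheafPushforwardContinuous AddCommGrpCat.{u} JB J).map (proj (J' := J') j P Φ Q σ η N)).hom :=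
    @NatIso.isIso_of_isIso_app _ _ _ _ _ _ (Functor.whiskerLeft e.op (proj (J' := J') j P Φ Q σ η N).hom) this
  haveI : IsIso ((sheafToPresheaf JB AddCommGrpCat.{u}).map
      ((e.sheafPushforwardContinuous AddCommGrpCat.{u} JB J).map (proj (J' := J') j P Φ Q σ η N))) := this
  exact isIso_of_reflects_iso _ (sheafToPresheaf JB AddCommGrpCat.{u})

include hbij in
/-- The comparison is invertible on extensions from the base. -/
theorem isIso_aplus_eL (L : Sheaf JB AddCommGrpCat.{u}) :
    IsIso ((aplus (J₀ := J₀) (J' := J') j P Φ Q σ η).app ((eL JB J e).obj L)) := by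
  let a := (aplus (J₀ := J₀) (J' := J') j P Φ Q σ η).app ((eL JB J e).obj L)
  have key : ∀ N : Sheaf J AddCommGrpCat.{u}, Function.Bijective
      fun x : (jR J₀ J j ⋙ decP J₀ J J' P Φ).obj ((eL JB J e).obj L) ⟶ N => a ≫ x := by
    intro N
    haveI := isIso_restrict_proj (JB := JB) (J' := J') e j P Φ Q σ η hbij N
    let adjE := e.sheafAdjunctionContinuous AddCommGrpCat.{u} JB J
    let adjΦ := Φ.sheafAdjunctionContinuous AddCommGrpCat.{u} J' J
    let adjK := (P ⋙ j).sheafAdjunctionCocontinuous AddCommGrpCat.{u} J' J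
    let M := ((P ⋙ j).sheafPushforwardContinuous AddCommGrpCat.{u} J' J).obj ((eL JB J e).obj L)
    let E₁ : ((Φ.sheafPullback AddCommGrpCat.{u} J' J).obj M ⟶ N) ≃ ((eL JB J e).obj L ⟶
        ((P ⋙ j).sheafPushforwardCocontinuous AddCommGrpCat.{u} J' J).obj ((Φ.sheafPushforwardContinuous AddCommGrpCat.{u} J' J).obj N)) :=
      (adjΦ.homEquiv M N).trans (adjK.homEquiv _ _)
    have hb : Function.Bijective
        fun z => adjE.homEquiv L N (z ≫ proj (J' := J') j P Φ Q σ η N) := by
      refine Function.Bijective.comp (f := fun z => z ≫ proj (J' := J') j P Φ Q σ η N)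
        (adjE.homEquiv L N).bijective ?_
      refine ⟨fun z z' hz => (adjE.homEquiv _ _).injective ?_, fun t => ?_⟩
      · have h := congrArg (adjE.homEquiv L N) hz
        rw [adjE.homEquiv_naturality_right, adjE.homEquiv_naturality_right] at h
        exact (cancel_mono _).1 h
      · refine ⟨(adjE.homEquiv _ _).symm (adjE.homEquiv _ _ t ≫
          inv ((e.sheafPushforwardContinuous AddCommGrpCat.{u} JB J).map (proj (J' := J') j P Φ Q σ η N))),
          (adjE.homEquiv _ _).injective ?_⟩
        rw [adjE.homEquiv_naturality_right, Equiv.apply_symm_apply, Category.assoc, IsIso.inv_hom_id,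
          Category.comp_id]
    have heq : ∀ x : (jR J₀ J j ⋙ decP J₀ J J' P Φ).obj ((eL JB J e).obj L) ⟶ N,
        E₁ x ≫ proj (J' := J') j P Φ Q σ η N = a ≫ x := by
      intro x
      have hy : adjΦ.homEquiv M N x = ((P ⋙ j).sheafPushforwardContinuous AddCommGrpCat.{u} J' J).map (E₁ x) ≫ adjK.counit.app _ :=
        ((adjK.homEquiv _ _).symm_apply_apply _).symm.trans (adjK.homEquiv_counit _ _ _)
      apply CategoryTheory.Sheaf.hom_ext
      ext X : 2
      have h1 := (E₁ x).hom.naturality (η.app X.unop).op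
      have h2 : ((adjΦ.unit.app M).hom.app (Q.op.obj X)) ≫ x.hom.app (Φ.op.obj (Q.op.obj X)) =
          (E₁ x).hom.app ((P ⋙ j).op.obj (Q.op.obj X)) ≫ (adjK.counit.app _).hom.app (Q.op.obj X) := by
        rw [adjΦ.homEquiv_unit] at hy
        exact congrArg (fun q => q.hom.app (Q.op.obj X)) hy
      have h3 := x.hom.naturality (σ.inv.app X.unop).op
      dsimp [a, aplus, proj] at h1 h2 h3 ⊢
      simp only [Category.assoc] at h3 ⊢
      erw [h3]
      erw [reassoc_of% h2]
      erw [reassoc_of% h1]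
    have : (fun x => adjE.homEquiv L N (a ≫ x)) =
        fun x => adjE.homEquiv L N (E₁ x ≫ proj (J' := J') j P Φ Q σ η N) := by
      funext x; rw [heq]
    have hc : Function.Bijective fun x => adjE.homEquiv L N (a ≫ x) := this ▸ hb.comp E₁.bijective
    exact (Function.Bijective.of_comp_iff' (adjE.homEquiv L N).bijective _).1 hc
  obtain ⟨r, hr⟩ := (key _).2 (𝟙 _)
  exact ⟨r, hr, (key _).1 (by dsimp only at hr ⊢; rw [← Category.assoc, hr, Category.id_comp, Category.comp_id])⟩

end

/-- The extension from the base is fully faithful. -/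
theorem isIso_unit_eL : IsIso (e.sheafAdjunctionContinuous AddCommGrpCat.{u} JB J).unit := by
  let t : Adjunction.Triple (eL JB J e) (e.sheafPushforwardContinuous AddCommGrpCat.{u} JB J)
      (e.sheafPushforwardCocontinuous AddCommGrpCat.{u} JB J) :=
    ⟨e.sheafAdjunctionContinuous AddCommGrpCat.{u} JB J, e.sheafAdjunctionCocontinuous AddCommGrpCat.{u} JB J⟩
  refine t.isIso_unit_iff_isIso_counit.2 ?_
  haveI : ∀ G : Sheaf JB AddCommGrpCat.{u}, IsIso ((e.sheafAdjunctionCocontinuous AddCommGrpCat.{u} JB J).counit.app G) := fun G => by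
    haveI : IsIso ((sheafToPresheaf JB AddCommGrpCat.{u}).map ((e.sheafAdjunctionCocontinuous AddCommGrpCat.{u} JB J).counit.app G)) := by
      show IsIso ((e.sheafAdjunctionCocontinuous AddCommGrpCat.{u} JB J).counit.app G).hom
      rw [Functor.sheafAdjunctionCocontinuous_counit_app_hom, Functor.ranAdjunction_counit]
      exact inferInstanceAs (IsIso (e.op.ranCounit.app G.obj))
    exact isIso_of_reflects_iso _ (sheafToPresheaf JB AddCommGrpCat.{u})
  exact NatIso.isIso_of_isIso_app _

variable [HasDerivedCategory.{w₁} (Sheaf JB AddCommGrpCat.{u})] [HasDerivedCategory.{w₂} (Sheaf J₀ AddCommGrpCat.{u})]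

include J' Φ Q σ η ζ in
/-- Cohomological descent for a split augmentation: the inverse image is exact and fully faithful on derived
categories. -/
theorem exists_exact_bijective
    (hζ : ∀ X, j.map (ζ.app X) = η.app (j.obj X))
    (hbij : ∀ (X : C') (U : B),
      Function.Bijective fun k : X ⟶ Q.obj (e.obj U) => j.map (P.map k) ≫ η.app (e.obj U))
    [(eL JB J e ⋙ jR J₀ J j).Additive] :
    ∃ (_ : PreservesFiniteLimits (eL JB J e ⋙ jR J₀ J j)) (_ : PreservesFiniteColimits (eL JB J e ⋙ jR J₀ J j)),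
      ∀ (K L : DerivedCategory (Sheaf JB AddCommGrpCat.{u})),
        Function.Bijective ((eL JB J e ⋙ jR J₀ J j).mapDerivedCategory.map : (K ⟶ L) → _) := by
  haveI : (P ⋙ j).IsContinuous J' J := Functor.isContinuous_comp P j J' J₀ J
  haveI : (P ⋙ j).IsCocontinuous J' J := isCocontinuous_comp P j J' J₀
  let θ := eL JB J e ⋙ jR J₀ J j
  let ρ := decP J₀ J J' P Φ ⋙ e.sheafPushforwardContinuous AddCommGrpCat.{u} JB J
  let Dc := decP J₀ J J' P Φ ⋙ jR J₀ J j
  haveI := rex_of_adj (e.sheafAdjunctionContinuous AddCommGrpCat.{u} JB J)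
  haveI := rex_of_adj (Φ.sheafAdjunctionContinuous AddCommGrpCat.{u} J' J)
  haveI := rex_of_adj (j.sheafAdjunctionCocontinuous AddCommGrpCat.{u} J₀ J)
  haveI := rex_of_adj (P.sheafAdjunctionCocontinuous AddCommGrpCat.{u} J' J₀)
  haveI := rex_of_adj (e.sheafAdjunctionCocontinuous AddCommGrpCat.{u} JB J)
  haveI := lex_of_adj (j.sheafAdjunctionContinuous AddCommGrpCat.{u} J₀ J)
  haveI := lex_of_adj (P.sheafAdjunctionContinuous AddCommGrpCat.{u} J' J₀)
  haveI := lex_of_adj (e.sheafAdjunctionContinuous AddCommGrpCat.{u} JB J)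
  haveI := lex_pullback JB J e
  haveI := lex_pullback J' J Φ
  haveI : PreservesFiniteLimits (decP J₀ J J' P Φ) := comp_preservesFiniteLimits _ _
  haveI : PreservesFiniteColimits (decP J₀ J J' P Φ) := comp_preservesFiniteColimits _ _
  haveI hθl : PreservesFiniteLimits θ := comp_preservesFiniteLimits _ _
  haveI hθc : PreservesFiniteColimits θ := comp_preservesFiniteColimits _ _
  haveI : PreservesFiniteLimits ρ := comp_preservesFiniteLimits _ _
  haveI : PreservesFiniteColimits ρ := comp_preservesFiniteColimits _ _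
  haveI : PreservesFiniteLimits Dc := comp_preservesFiniteLimits _ _
  haveI : PreservesFiniteColimits Dc := comp_preservesFiniteColimits _ _
  haveI : PreservesLimitsOfShape (Discrete WalkingPair) ρ := PreservesFiniteLimits.preservesFiniteLimits _
  haveI : PreservesLimitsOfShape (Discrete WalkingPair) Dc := PreservesFiniteLimits.preservesFiniteLimits _
  haveI : ρ.Additive := Functor.additive_of_preserves_binary_products _
  haveI : Dc.Additive := Functor.additive_of_preserves_binary_products _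
  haveI hplus := fun L => isIso_aplus_eL (JB := JB) (J₀ := J₀) (J := J) (J' := J') e j P Φ Q σ η hbij L
  haveI := isIso_unit_eL (JB := JB) (J := J) e
  let adjE := e.sheafAdjunctionContinuous AddCommGrpCat.{u} JB J
  let A : eL JB J e ≅ eL JB J e ⋙ jR J₀ J j ⋙ decP J₀ J J' P Φ :=
    NatIso.ofComponents (fun L => asIso ((aplus (J₀ := J₀) (J' := J') j P Φ Q σ η).app ((eL JB J e).obj L)))
      (fun f => (aplus (J₀ := J₀) (J' := J') j P Φ Q σ η).naturality _)
  let i : θ ⋙ ρ ≅ 𝟭 _ :=
    Functor.isoWhiskerRight A.symm (e.sheafPushforwardContinuous AddCommGrpCat.{u} JB J) ≪≫ (asIso adjE.unit).symm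
  refine ⟨hθl, hθc, DerivedRetract.bijective_mapDerivedCategory θ ρ i Dc
    (aFam (J := J) (J' := J') j P Φ Q σ ζ)
    { app := fun M => (jR J₀ J j).map (adjE.counit.app ((decP J₀ J J' P Φ).obj M))
      naturality := fun M M' g => by
        exact ((jR J₀ J j).map_comp _ _).symm.trans ((congrArg _ (adjE.counit.naturality _)).trans
          ((jR J₀ J j).map_comp _ _)) }
    (fun L => ?_) (fun L => ?_)⟩
  · show IsIso ((aFam (J := J) (J' := J') j P Φ Q σ ζ).app ((jR J₀ J j).obj ((eL JB J e).obj L)))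
    rw [aFam_eq j P Φ Q σ η ζ hζ]
    infer_instance
  · show IsIso ((jR J₀ J j).map (adjE.counit.app ((eL JB J e ⋙ jR J₀ J j ⋙ decP J₀ J J' P Φ).obj L)))
    haveI : IsIso (adjE.counit.app ((eL JB J e ⋙ jR J₀ J j ⋙ decP J₀ J J' P Φ).obj L)) := by
      refine (NatTrans.isIso_app_iff_of_iso adjE.counit (A.app L).symm).2 ?_
      haveI : IsIso (adjE.unit.app L) := NatIso.isIso_app_of_isIso _ _
      haveI : IsIso ((eL JB J e).map (adjE.unit.app L) ≫ adjE.counit.app ((eL JB J e).obj L)) := by
        exact (congrArg IsIso (adjE.left_triangle_components L)).mpr (IsIso.id _)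
      exact IsIso.of_isIso_comp_left ((eL JB J e).map (adjE.unit.app L)) _
    infer_instance

end Groth.Agent.FibSiteLib.SplitDescent
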