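import Groth.Agent.FibSiteLib.TopLocal
import Mathlib.Topology.Category.TopCat.Limits.Pullbacks

/-!
# Cohomological descent of continuous maps is local on the base
-/

set_option autoImplicit false
set_option backward.isDefEq.respectTransparency false
set_option backward.isDefEq.respectTransparency.types false

universe u

open CategoryTheory CategoryTheory.Limits Opposite TopologicalSpace Topology

noncomputable section

namespace Groth.Agent.FibSiteLib.CechLocal

variable {X S : TopCat.{u}} (u : X ⟶ S) (V : Opens S)

/-- The inclusion of an open set. -/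
abbrev jV : TopCat.of V ⟶ S := TopCat.ofHom ⟨Subtype.val, continuous_subtype_val⟩

/-- The base change. -/
abbrev bc : pullback u (jV V) ⟶ TopCat.of V := pullback.snd u (jV V)

/-- The square of the base change. -/
abbrev sq : Arrow.mk (bc u V) ⟶ Arrow.mk u :=
  Arrow.homMk (pullback.fst u (jV V)) (jV V) pullback.condition

/-- The base change of augmented Čech nerves. -/
abbrev a : FibDesc.cechAug (bc u V) ⟶ FibDesc.cechAug u :=
  AugmentedSimplexCategory.equivAugmentedSimplicialObject.inverse.map (Arrow.mapAugmentedCechNerve (sq u V))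

/-- The map on the terms. -/
abbrev φ (n : ℕ) : widePullback.{0} (TopCat.of V) (fun _ : Fin (n + 1) => pullback u (jV V)) (fun _ => bc u V) ⟶
    widePullback.{0} S (fun _ : Fin (n + 1) => X) (fun _ => u) :=
  WidePullback.lift (WidePullback.base _ ≫ jV V) (fun i => WidePullback.π _ i ≫ pullback.fst u (jV V))
    (fun i => by rw [Category.assoc, pullback.condition, ← Category.assoc, WidePullback.π_arrow])

lemma φ_spec (n : ℕ) : IsOpenEmbedding (φ u V n) ∧
    ∀ s, WidePullback.base (fun _ : Fin (n + 1) => u) s ∈ (V : Set S) → s ∈ Set.range (φ u V n) := by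
  let P := widePullback.{0} S (fun _ : Fin (n + 1) => X) (fun _ => u)
  let P' := widePullback.{0} (TopCat.of V) (fun _ : Fin (n + 1) => pullback u (jV V)) (fun _ => bc u V)
  let U : Opens P := (Opens.map (WidePullback.base (fun _ : Fin (n + 1) => u))).obj V
  let inc : TopCat.of U ⟶ P := TopCat.ofHom ⟨Subtype.val, continuous_subtype_val⟩
  let l : TopCat.of U ⟶ TopCat.of V :=
    TopCat.ofHom ⟨fun s => ⟨WidePullback.base (fun _ : Fin (n + 1) => u) s.1, s.2⟩,
      ((WidePullback.base (fun _ : Fin (n + 1) => u)).hom.continuous.comp continuous_subtype_val).subtype_mk _⟩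
  have hl : l ≫ jV V = inc ≫ WidePullback.base _ := rfl
  let g : TopCat.of U ⟶ P' := WidePullback.lift l
    (fun i => pullback.lift (inc ≫ WidePullback.π _ i) l
      (by rw [Category.assoc, WidePullback.π_arrow, hl]))
    (fun i => pullback.lift_snd _ _ _)
  have hφb : φ u V n ≫ WidePullback.base _ = WidePullback.base _ ≫ jV V := WidePullback.lift_base _ _ _ _
  have hmem : ∀ x, φ u V n x ∈ U := fun x => by
    show WidePullback.base (fun _ : Fin (n + 1) => u) (φ u V n x) ∈ V
    rw [show WidePullback.base (fun _ : Fin (n + 1) => u) (φ u V n x) =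
      jV V (WidePullback.base (fun _ : Fin (n + 1) => bc u V) x) from ConcreteCategory.congr_hom hφb x]
    exact (WidePullback.base (fun _ : Fin (n + 1) => bc u V) x).2
  let φ' : P' ⟶ TopCat.of U :=
    TopCat.ofHom ⟨fun x => ⟨φ u V n x, hmem x⟩, (φ u V n).hom.continuous.subtype_mk _⟩
  have hφ' : φ' ≫ inc = φ u V n := rfl
  haveI : Mono (jV V) := (TopCat.mono_iff_injective _).2 Subtype.val_injective
  have hl' : φ' ≫ l = WidePullback.base _ := by
    rw [← cancel_mono (jV V), Category.assoc, hl, reassoc_of% hφ', hφb]
  have hg : g ≫ φ u V n = inc := by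
    refine WidePullback.hom_ext _ _ _ (fun i => ?_) ?_
    · rw [Category.assoc, WidePullback.lift_π, WidePullback.lift_π_assoc, pullback.lift_fst]
    · rw [Category.assoc, hφb, WidePullback.lift_base_assoc, hl]
  have h1 : φ' ≫ g = 𝟙 P' := by
    refine WidePullback.hom_ext _ _ _ (fun i => ?_) ?_
    · rw [Category.assoc, WidePullback.lift_π, Category.id_comp]
      refine pullback.hom_ext ?_ ?_
      · rw [Category.assoc, pullback.lift_fst, reassoc_of% hφ', WidePullback.lift_π]
      · rw [Category.assoc, pullback.lift_snd, hl', WidePullback.π_arrow]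
    · rw [Category.assoc, WidePullback.lift_base, hl', Category.id_comp]
  haveI : Mono inc := (TopCat.mono_iff_injective _).2 Subtype.val_injective
  have h2 : g ≫ φ' = 𝟙 _ := by
    rw [← cancel_mono inc, Category.assoc, hφ', hg, Category.id_comp]
  refine ⟨?_, fun s hs => ⟨g ⟨s, hs⟩, ConcreteCategory.congr_hom hg ⟨s, hs⟩⟩⟩
  exact U.isOpenEmbedding'.comp (TopCat.homeoOfIso ⟨φ', g, h1, h2⟩).isOpenEmbedding

/-- Cohomological descent is local on the base. -/
theorem isCohDescentMap_of_openCover {ι : Type u} (V : ι → Opens S) (hV : iSup V = ⊤)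
    (h : ∀ i, FibDesc.IsCohDescentMap (bc u (V i))) : FibDesc.IsCohDescentMap u := by
  refine TopLocal.isCohDescentTop_of_cover (Y₁ := fun i => FibDesc.cechAug (bc u (V i))) (fun i => a u (V i))
    (fun i x => ?_) (fun i x => ?_) (fun s => ?_) h
  · match x with
    | op .star => exact (V i).isOpenEmbedding'
    | op (.of n) => exact (φ_spec u (V i) n.len).1
  · match x with
    | op .star =>
      intro s hs
      rw [show TopLocal.toBot (op (WithInitial.star : WithInitial SimplexCategory)) = 𝟙 _ from
        Quiver.Hom.unop_inj (WithInitial.starInitial.hom_ext _ _)] at hs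
      rw [CategoryTheory.Functor.map_id] at hs
      exact hs
    | op (.of n) =>
      intro s hs
      refine (φ_spec u (V i) n.len).2 s ?_
      obtain ⟨v, hv⟩ := hs
      exact hv ▸ v.2
  · obtain ⟨i, hi⟩ := Opens.mem_iSup.1 (show s ∈ iSup V by rw [hV]; trivial)
    exact ⟨i, ⟨s, hi⟩, rfl⟩

end Groth.Agent.FibSiteLib.CechLocal
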