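import Groth.Agent.FibSiteLib.SplitDescent
import Mathlib.CategoryTheory.Sites.EpiMono
import Mathlib.CategoryTheory.Sites.LocallyBijective
import Mathlib.CategoryTheory.Limits.FunctorCategory.Finite
import Mathlib.CategoryTheory.Adjunction.Whiskering
import Mathlib.Algebra.Category.Grp.Zero

/-!
# Open subsites: extension by zero and support

`J : C' ⥤ C` is fully faithful with right adjoint `K`; every object mapping to the image of `J` is "inside", i.e.
isomorphic to such an image. Then extension along `J` is exact and its image is the sheaves supported inside.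
-/

set_option autoImplicit false
set_option backward.isDefEq.respectTransparency false
set_option backward.isDefEq.respectTransparency.types false

universe u

open CategoryTheory CategoryTheory.Limits Opposite

noncomputable section

namespace Groth.Agent.FibSiteLib.SubSite

variable {C C' : Type u} [SmallCategory C] [SmallCategory C'] {T : GrothendieckTopology C}
  {T' : GrothendieckTopology C'} (J : C' ⥤ C) (In : C → Prop)

/-- A sheaf supported inside. -/
def Supp (N : Sheaf T AddCommGrpCat.{u}) : Prop :=
  ∀ (X : C) (t : N.obj.obj (op X)), ∃ S ∈ T X, ∀ ⦃Y : C⦄ (f : Y ⟶ X), S.arrows f → In Y ∨ N.obj.map f.op t = 0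

variable {In} in
lemma supp_of_iso {N N' : Sheaf T AddCommGrpCat.{u}} (i : N ≅ N') (h : Supp In N) : Supp In N' := by
  intro X t
  obtain ⟨S, hS, hS'⟩ := h X (i.inv.hom.app (op X) t)
  refine ⟨S, hS, fun Y f hf => (hS' f hf).imp id fun h0 => ?_⟩
  have h1 : i.inv.hom.app (op Y) (N'.obj.map f.op t) = 0 :=
    (NatTrans.naturality_apply i.inv.hom f.op t).trans h0
  have h2 : i.hom.hom.app (op Y) (i.inv.hom.app (op Y) (N'.obj.map f.op t)) = N'.obj.map f.op t :=
    congrArg (fun q => q.hom.app (op Y) (N'.obj.map f.op t)) i.inv_hom_id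
  rw [h1, map_zero] at h2
  exact h2.symm

variable (hin : ∀ X, In X → ∃ Z, Nonempty (X ≅ J.obj Z)) (hout : ∀ X Z, (X ⟶ J.obj Z) → In X)

include hout in
/-- Outside, left Kan extensions vanish. -/
lemma isZero_lan (P : C'ᵒᵖ ⥤ AddCommGrpCat.{u}) (X : C) (hX : ¬ In X) : IsZero ((J.op.lan.obj P).obj (op X)) := by
  have : IsEmpty (CostructuredArrow J.op (op X)) := ⟨fun k => hX (hout X k.left.unop k.hom.unop)⟩
  have hc := J.op.isPointwiseLeftKanExtensionLeftKanExtensionUnit P (op X)
  refine (IsZero.iff_id_eq_zero _).2 (hc.hom_ext fun k => isEmptyElim k)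

variable [J.Full] [J.Faithful]

include hin hout in
/-- Extension by zero of presheaves is left exact. -/
theorem lex_lan : PreservesFiniteLimits (J.op.lan : (C'ᵒᵖ ⥤ AddCommGrpCat.{u}) ⥤ _) := by
  refine ⟨fun K _ _ => preservesLimitsOfShape_of_evaluation _ K fun X => ?_⟩
  by_cases hX : In X.unop
  · obtain ⟨Z, ⟨i⟩⟩ := hin _ hX
    refine preservesLimitsOfShape_of_natIso (F := (evaluation C'ᵒᵖ AddCommGrpCat.{u}).obj (op Z)) ?_
    exact NatIso.ofComponents
      (fun P => (asIso ((J.op.lanUnit.app P).app (op Z))) ≪≫ (J.op.lan.obj P).mapIso i.op)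
      (fun {P Q} f => by
        have h1 := congrArg (fun q => q.app (op Z)) ((J.op.lanUnit (H := AddCommGrpCat.{u})).naturality f)
        have h2 := (J.op.lan.map f).naturality i.op.hom
        dsimp at h1 h2 ⊢
        erw [reassoc_of% h1]
        rw [Category.assoc]
        exact congrArg (_ ≫ ·) h2.symm)
  · have hz : IsZero (J.op.lan ⋙ (evaluation Cᵒᵖ AddCommGrpCat.{u}).obj X) :=
      Functor.isZero _ fun P => isZero_lan J In hout P X.unop hX
    exact ⟨fun {D} => ⟨fun {c} _ => ⟨{
      lift := fun t => 0
      fac := fun t k => (Functor.isZero_iff _).1 hz (D.obj k) |>.eq_of_tgt _ _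
      uniq := fun t m _ => (Functor.isZero_iff _).1 hz c.pt |>.eq_of_tgt _ _ }⟩⟩⟩

variable [J.IsContinuous T' T] [J.IsCocontinuous T' T]

variable (T T')

/-- Restriction to the subsite. -/
abbrev r : Sheaf T AddCommGrpCat.{u} ⥤ Sheaf T' AddCommGrpCat.{u} :=
  J.sheafPushforwardContinuous AddCommGrpCat.{u} T' T

/-- Extension by zero. -/
abbrev e : Sheaf T' AddCommGrpCat.{u} ⥤ Sheaf T AddCommGrpCat.{u} :=
  J.sheafPullback AddCommGrpCat.{u} T' T

/-- The adjunction. -/
abbrev adj : e T T' J ⊣ r T T' J := J.sheafAdjunctionContinuous AddCommGrpCat.{u} T' T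

include hin hout in
/-- Extension by zero is left exact. -/
theorem lex_e : PreservesFiniteLimits (e T T' J) :=
  haveI := lex_lan J In hin hout
  Functor.sheafPullbackConstruction.preservesFiniteLimits J AddCommGrpCat.{u} T' T

/-- Extension by zero is fully faithful. -/
theorem isIso_unit : IsIso (adj T T' J).unit := by
  let t : Adjunction.Triple (e T T' J) (r T T' J) (J.sheafPushforwardCocontinuous AddCommGrpCat.{u} T' T) :=
    ⟨adj T T' J, J.sheafAdjunctionCocontinuous AddCommGrpCat.{u} T' T⟩
  refine t.isIso_unit_iff_isIso_counit.2 ?_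
  haveI : ∀ G : Sheaf T' AddCommGrpCat.{u},
      IsIso ((J.sheafAdjunctionCocontinuous AddCommGrpCat.{u} T' T).counit.app G) := fun G => by
    haveI : IsIso ((sheafToPresheaf T' AddCommGrpCat.{u}).map
        ((J.sheafAdjunctionCocontinuous AddCommGrpCat.{u} T' T).counit.app G)) := by
      show IsIso ((J.sheafAdjunctionCocontinuous AddCommGrpCat.{u} T' T).counit.app G).hom
      rw [Functor.sheafAdjunctionCocontinuous_counit_app_hom, Functor.ranAdjunction_counit]
      exact inferInstanceAs (IsIso (J.op.ranCounit.app G.obj))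
    exact isIso_of_reflects_iso _ (sheafToPresheaf T' AddCommGrpCat.{u})
  exact NatIso.isIso_of_isIso_app _

/-- Restriction of the counit is invertible. -/
theorem isIso_r_counit (N : Sheaf T AddCommGrpCat.{u}) : IsIso ((r T T' J).map ((adj T T' J).counit.app N)) := by
  haveI := isIso_unit T T' J
  haveI : IsIso ((adj T T' J).unit.app ((r T T' J).obj N) ≫ (r T T' J).map ((adj T T' J).counit.app N)) :=
    (congrArg IsIso ((adj T T' J).right_triangle_components N)).mpr (IsIso.id _)
  exact IsIso.of_isIso_comp_left ((adj T T' J).unit.app ((r T T' J).obj N)) _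

include hout in
/-- Extensions by zero are supported inside. -/
theorem supp_e (M : Sheaf T' AddCommGrpCat.{u}) : Supp In ((e T T' J).obj M) := by
  refine supp_of_iso ((Functor.sheafPullbackConstruction.sheafPullbackIso J AddCommGrpCat.{u} T' T).symm.app M) ?_
  intro X t
  let P := J.op.lan.obj M.obj
  refine ⟨Presheaf.imageSieve (toSheafify T P) t, Presheaf.imageSieve_mem T _ _, fun Y f hf => ?_⟩
  refine (em (In Y)).imp id fun hY => ?_
  obtain ⟨s, hs⟩ := hf
  have : Subsingleton (P.obj (op Y)) := AddCommGrpCat.isZero_iff_subsingleton.1 (isZero_lan J In hout M.obj Y hY)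
  refine hs.symm.trans ?_
  rw [Subsingleton.elim s 0]
  exact map_zero _

include hin hout in
/-- On sheaves supported inside, the counit is invertible. -/
theorem isIso_counit {N : Sheaf T AddCommGrpCat.{u}} (hN : Supp In N) : IsIso ((adj T T' J).counit.app N) := by
  let ε := (adj T T' J).counit.app N
  have hloc : ∀ Y, In Y → Function.Bijective (ε.hom.app (op Y)) := by
    intro Y hY
    obtain ⟨Z, ⟨i⟩⟩ := hin _ hY
    haveI := isIso_r_counit T T' J N
    haveI : IsIso (ε.hom.app (op (J.obj Z))) :=
      inferInstanceAs (IsIso (((sheafToPresheaf T' AddCommGrpCat.{u}).map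
        ((r T T' J).map ((adj T T' J).counit.app N))).app (op Z)))
    haveI : IsIso (ε.hom.app (op Y)) := (NatTrans.isIso_app_iff_of_iso ε.hom i.op).1 inferInstance
    exact ConcreteCategory.bijective_of_isIso _
  haveI hinj : Presheaf.IsLocallyInjective T ε.hom := by
    refine ⟨fun {X} x y h => ?_⟩
    obtain ⟨S, hS, hS'⟩ := supp_e T T' J In hout ((r T T' J).obj N) X.unop (x - y)
    refine T.superset_covering (fun Y f hf => ?_) hS
    show ((e T T' J).obj ((r T T' J).obj N)).obj.map f.op x = ((e T T' J).obj ((r T T' J).obj N)).obj.map f.op y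
    rcases hS' f hf with hY | h0
    · refine (hloc Y hY).1 ?_
      refine (NatTrans.naturality_apply ε.hom f.op x).trans (Eq.trans ?_ (NatTrans.naturality_apply ε.hom f.op y).symm)
      exact congrArg _ h
    · rw [map_sub, sub_eq_zero] at h0
      exact h0
  haveI hsurj : Presheaf.IsLocallySurjective T ε.hom := by
    refine ⟨fun {X} t => ?_⟩
    obtain ⟨S, hS, hS'⟩ := hN X t
    refine T.superset_covering (fun Y f hf => ?_) hS
    rcases hS' f hf with hY | h0
    · exact (hloc Y hY).2 _
    · exact ⟨0, (map_zero _).trans h0.symm⟩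
  exact (Sheaf.isLocallyBijective_iff_isIso (J := T) (A := AddCommGrpCat.{u}) ε).1 ⟨hinj, hsurj⟩

section RightAdjoint

variable (K : C ⥤ C') (adjJK : J ⊣ K) [K.IsContinuous T T']

/-- Restriction is the inverse image along the right adjoint. -/
def pushAdj : r T T' J ⊣ K.sheafPushforwardContinuous AddCommGrpCat.{u} T T' :=
  ((adjJK.op.whiskerLeft AddCommGrpCat.{u})).restrictFullyFaithful
    (fullyFaithfulSheafToPresheaf T AddCommGrpCat.{u}) (fullyFaithfulSheafToPresheaf T' AddCommGrpCat.{u})
    (J.sheafPushforwardContinuousCompSheafToPresheafIso AddCommGrpCat.{u} T' T).symm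
    (K.sheafPushforwardContinuousCompSheafToPresheafIso AddCommGrpCat.{u} T T').symm

end RightAdjoint

end Groth.Agent.FibSiteLib.SubSite
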