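import Groth.Agent.FibSiteLib.SubSite
import Groth.Agent.FibSiteLib.Total
import Groth.Prelude.Def_FibDesc

/-!
# Open parts of families of spaces
-/

set_option autoImplicit false
set_option backward.isDefEq.respectTransparency false
set_option backward.isDefEq.respectTransparency.types false

universe u

open CategoryTheory CategoryTheory.Limits Opposite TopologicalSpace Topology Pseudofunctor.CoGrothendieck

noncomputable section

namespace Groth.Agent.FibSiteLib.TopFam

variable {𝒯 : Type} [SmallCategory 𝒯] (Z : 𝒯 ⥤ TopCat.{u})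

/-- The family of open-set sites of a family of spaces. -/
abbrev topFam : Pseudofunctor (LocallyDiscrete 𝒯ᵒᵖ) Cat.{u, u} :=
  (Z.op ⋙ FibDesc.opensCat).toPseudofunctor'

/-- Its topologies. -/
abbrev top : FibSite.Topologies (topFam Z) := fun S => Opens.grothendieckTopology (Z.obj S)

/-- The open set of an object. -/
abbrev fib (X : ∫ᶜ (topFam Z)) : Opens (Z.obj X.base) := X.fiber

lemma hom_ext {X W : ∫ᶜ (topFam Z)} (f g : X ⟶ W) (h : f.base = g.base) : f = g := by
  refine Hom.ext _ _ h ?_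
  exact Subsingleton.elim (α := (X.fiber : Opens (Z.obj X.base)) ⟶ _) _ _

/-- A morphism of the total category. -/
def mk {X W : ∫ᶜ (topFam Z)} (b : X.base ⟶ W.base)
    (h : fib Z X ≤ (Opens.map (Z.map b)).obj (fib Z W)) : X ⟶ W :=
  ⟨b, homOfLE (X := Opens (Z.obj X.base)) h⟩

lemma le_of_hom {X W : ∫ᶜ (topFam Z)} (f : X ⟶ W) :
    fib Z X ≤ (Opens.map (Z.map f.base)).obj (fib Z W) :=
  leOfHom (X := Opens (Z.obj X.base)) (show fib Z X ⟶ _ from f.fiber)

theorem isPreFibSite : FibSite.IsPreFibSite (topFam Z) (top Z) :=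
  fun R S b => inferInstanceAs
    ((Opens.map (Z.map b)).IsContinuous (Opens.grothendieckTopology _) (Opens.grothendieckTopology _))

variable {Z} {Z' : 𝒯 ⥤ TopCat.{u}} (β : Z' ⟶ Z) (hβ : ∀ S, IsOpenEmbedding (β.app S))
  (hcart : ∀ {S T : 𝒯} (b : S ⟶ T) (s : Z.obj S), Z.map b s ∈ Set.range (β.app T) → s ∈ Set.range (β.app S))

lemma β_map {S T : 𝒯} (b : S ⟶ T) (w : Z'.obj S) : Z.map b (β.app S w) = β.app T (Z'.map b w) :=
  (congrArg (fun q => (ConcreteCategory.hom q) w) (β.naturality b)).symm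

/-- The open part of the family. -/
def J : ∫ᶜ (topFam Z') ⥤ ∫ᶜ (topFam Z) where
  obj X := ⟨X.base, (hβ X.base).functor.obj (fib Z' X)⟩
  map {X W} f := mk Z (X := ⟨X.base, (hβ X.base).functor.obj (fib Z' X)⟩)
    (W := ⟨W.base, (hβ W.base).functor.obj (fib Z' W)⟩) f.base (by
      rintro _ ⟨x, hx, rfl⟩
      exact ⟨Z'.map f.base x, le_of_hom Z' f hx, (β_map β f.base x).symm⟩)
  map_id X := hom_ext Z _ _ rfl
  map_comp f g := hom_ext Z _ _ rfl

/-- Its right adjoint. -/
def K : ∫ᶜ (topFam Z) ⥤ ∫ᶜ (topFam Z') where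
  obj X := ⟨X.base, (Opens.map (β.app X.base)).obj (fib Z X)⟩
  map {X W} f := mk Z' (X := ⟨X.base, (Opens.map (β.app X.base)).obj (fib Z X)⟩)
    (W := ⟨W.base, (Opens.map (β.app W.base)).obj (fib Z W)⟩) f.base (by
      intro x hx
      show β.app W.base (Z'.map f.base x) ∈ fib Z W
      rw [← β_map β f.base x]
      exact le_of_hom Z f hx)
  map_id X := hom_ext Z' _ _ rfl
  map_comp f g := hom_ext Z' _ _ rfl

/-- The adjunction. -/
def adjJK : J β hβ ⊣ K β where
  unit :=
    { app := fun X => mk Z' (X := X) (W := (J β hβ ⋙ K β).obj X) (𝟙 X.base) (by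
        intro x hx
        rw [Z'.map_id]
        exact ⟨x, hx, rfl⟩)
      naturality := fun X W f => hom_ext Z' _ _ ((Category.comp_id _).trans (Category.id_comp _).symm) }
  counit :=
    { app := fun X => mk Z (X := (K β ⋙ J β hβ).obj X) (W := X) (𝟙 X.base) (by
        rintro _ ⟨x, hx, rfl⟩
        show Z.map (𝟙 X.base) _ ∈ fib Z X
        rw [Z.map_id]
        exact hx)
      naturality := fun X W f => hom_ext Z _ _ ((Category.comp_id _).trans (Category.id_comp _).symm) }
  left_triangle_components _ := hom_ext Z _ _ (Category.id_comp _)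
  right_triangle_components _ := hom_ext Z' _ _ (Category.id_comp _)

instance : (J β hβ).Faithful where
  map_injective {X W} f g h :=
    hom_ext Z' f g (congrArg (fun q : (J β hβ).obj X ⟶ (J β hβ).obj W => q.base) h)

theorem full_J : (J β hβ).Full where
  map_surjective {X W} k := ⟨mk Z' (X := X) (W := W) k.base (by
    intro x hx
    obtain ⟨w, hw, e⟩ := le_of_hom Z k (show β.app X.base x ∈ (hβ X.base).functor.obj (fib Z' X) from ⟨x, hx, rfl⟩)
    have : w = Z'.map k.base x := (hβ W.base).injective (e.trans (β_map β k.base x))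
    show Z'.map k.base x ∈ fib Z' W
    rw [← this]
    exact hw), hom_ext Z _ _ rfl⟩

/-- Fibre inclusions commute with the open part. -/
def ιJ (S : 𝒯) : ι (topFam Z') S ⋙ J β hβ ≅
    (show (topFam Z').obj ⟨op S⟩ ⥤ (topFam Z).obj ⟨op S⟩ from (hβ S).functor) ⋙ ι (topFam Z) S :=
  NatIso.ofComponents (fun U => Iso.refl _) (fun g => hom_ext Z _ _ rfl)

/-- Fibre inclusions commute with the right adjoint. -/
def ιK (S : 𝒯) : ι (topFam Z) S ⋙ K β ≅
    (show (topFam Z).obj ⟨op S⟩ ⥤ (topFam Z').obj ⟨op S⟩ from Opens.map (β.app S)) ⋙ ι (topFam Z') S :=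
  NatIso.ofComponents (fun U => Iso.refl _) (fun g => hom_ext Z' _ _ rfl)

theorem isContinuous_J :
    (J β hβ).IsContinuous (FibSite.totalTopology (topFam Z') (top Z')) (FibSite.totalTopology (topFam Z) (top Z)) := by
  refine (isContinuous_total_iff (isPreFibSite Z') _ _).2 fun S => ?_
  haveI := isContinuous_ι (isPreFibSite Z) S
  haveI : (show (topFam Z').obj ⟨op S⟩ ⥤ (topFam Z).obj ⟨op S⟩ from (hβ S).functor).IsContinuous
      (top Z' S) (top Z S) := (hβ S).functor_isContinuous
  haveI := Functor.isContinuous_comp (show (topFam Z').obj ⟨op S⟩ ⥤ (topFam Z).obj ⟨op S⟩ from (hβ S).functor)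
    (ι (topFam Z) S) (top Z' S) (top Z S) (FibSite.totalTopology (topFam Z) (top Z))
  exact Functor.isContinuous_of_iso (ιJ β hβ S).symm _ _

theorem isContinuous_K :
    (K β).IsContinuous (FibSite.totalTopology (topFam Z) (top Z)) (FibSite.totalTopology (topFam Z') (top Z')) := by
  refine (isContinuous_total_iff (isPreFibSite Z) _ _).2 fun S => ?_
  haveI := isContinuous_ι (isPreFibSite Z') S
  haveI : (show (topFam Z).obj ⟨op S⟩ ⥤ (topFam Z').obj ⟨op S⟩ from Opens.map (β.app S)).IsContinuous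
      (top Z S) (top Z' S) := inferInstanceAs ((Opens.map (β.app S)).IsContinuous _ _)
  haveI := Functor.isContinuous_comp (show (topFam Z).obj ⟨op S⟩ ⥤ (topFam Z').obj ⟨op S⟩ from Opens.map (β.app S))
    (ι (topFam Z') S) (top Z S) (top Z' S) (FibSite.totalTopology (topFam Z') (top Z'))
  exact Functor.isContinuous_of_iso (ιK β S).symm _ _

theorem isCocontinuous_J :
    (J β hβ).IsCocontinuous (FibSite.totalTopology (topFam Z') (top Z')) (FibSite.totalTopology (topFam Z) (top Z)) where
  cover_lift {X T} hT := by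
    obtain ⟨T', hT', hle⟩ := (mem_totalTopology_iff (isPreFibSite Z) _ T).1 hT
    refine (mem_totalTopology_iff (isPreFibSite Z') _ _).2 ⟨Sieve.functorPullback (hβ X.base).functor T', ?_, ?_⟩
    · intro x hx
      obtain ⟨V, f, hf, hxV⟩ := hT' (β.app X.base x) ⟨x, hx, rfl⟩
      refine ⟨(Opens.map (β.app X.base)).obj V ⊓ fib Z' X, homOfLE inf_le_right, ?_, hxV, hx⟩
      let g : (hβ X.base).functor.obj ((Opens.map (β.app X.base)).obj V ⊓ fib Z' X) ⟶ V :=
        homOfLE (by rintro _ ⟨y, hy, rfl⟩; exact hy.1)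
      exact T'.downward_closed hf g
    · rintro W _ ⟨V, h, k, hh, rfl⟩
      show T.arrows ((J β hβ).map _)
      rw [Functor.map_comp]
      refine T.downward_closed ?_ _
      have heq : (J β hβ).map ((ι (topFam Z') X.base).map h) =
          (ι (topFam Z) X.base).map ((hβ X.base).functor.map h) := hom_ext Z _ _ rfl
      exact Eq.mpr (congrArg (fun q => T.arrows q) heq) (hle _ (Sieve.image_mem_functorPushforward _ _ hh))

/-- An object inside the open part. -/
def In (X : ∫ᶜ (topFam Z)) : Prop := ∀ x ∈ fib Z X, x ∈ Set.range (β.app X.base)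

include hβ in
lemma hin (X : ∫ᶜ (topFam Z)) (hX : In β X) : ∃ W, Nonempty (X ≅ (J β hβ).obj W) := by
  refine ⟨(K β).obj X, ⟨
    { hom := mk Z (X := X) (W := (J β hβ).obj ((K β).obj X)) (𝟙 X.base) (by
        intro x hx
        obtain ⟨w, rfl⟩ := hX x hx
        show Z.map (𝟙 X.base) _ ∈ (hβ X.base).functor.obj _
        rw [Z.map_id]
        exact ⟨w, hx, rfl⟩)
      inv := (adjJK β hβ).counit.app X
      hom_inv_id := hom_ext Z _ _ (Category.id_comp _)
      inv_hom_id := hom_ext Z _ _ (Category.id_comp _) }⟩⟩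

include hcart in
lemma hout (X : ∫ᶜ (topFam Z)) (W : ∫ᶜ (topFam Z')) (f : X ⟶ (J β hβ).obj W) : In β X := fun x hx => by
  obtain ⟨w, -, e⟩ := le_of_hom Z f hx
  exact hcart f.base x ⟨w, e⟩

end Groth.Agent.FibSiteLib.TopFam
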